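import Groth.Agent.Lib.QuotProj11.Proper
import Groth.Agent.Lib.Chow13.Main
import Groth.Agent.Lib.AmpleImm18.Local
import Groth.Agent.Lib.SchImage14.Immersion

/-!
Chow's lemma with projective modification.
-/

set_option autoImplicit false

universe u

open CategoryTheory Limits AlgebraicGeometry TopologicalSpace

set_option backward.isDefEq.respectTransparency false
set_option backward.isDefEq.respectTransparency.types false
set_option linter.style.haveILetI false

noncomputable section

namespace Groth.Agent.QuotProj11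

open Groth.Agent.Chow13

/-- `pullback f (P^n_S → S)` is `P^n_X`. -/
def overIso {X S : Scheme.{u}} (f : X ⟶ S) (n : ℕ) :
    CohB1.ProjSpaceOver n X ≅ pullback f (CohB1.ProjSpaceOver.toBase n S) :=
  (ProjSpace.isPullback_overMap n f).flip.isoPullback

theorem overIso_hom_fst {X S : Scheme.{u}} (f : X ⟶ S) (n : ℕ) :
    (overIso f n).hom ≫ pullback.fst _ _ = CohB1.ProjSpaceOver.toBase n X :=
  IsPullback.isoPullback_hom_fst _

theorem isHProjective_comp_of_isClosedImmersion {X Y Z : Scheme.{u}} {π : X ⟶ Y} (hπ : RelProj.IsHProjective π)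
    (z : Y ⟶ Z) [IsClosedImmersion z] : RelProj.IsHProjective (π ≫ z) := by
  obtain ⟨n, i, hi, rfl⟩ := hπ
  haveI : IsClosedImmersion (ProjSpace.overMap n z) :=
    MorphismProperty.of_isPullback (P := @IsClosedImmersion) (ProjSpace.isPullback_overMap n z).flip inferInstance
  exact ⟨n, i ≫ ProjSpace.overMap n z, inferInstance, by
    rw [Category.assoc, (ProjSpace.isPullback_overMap n z).w, Category.assoc]⟩

theorem isQuasiProjective_of_isImmersion {X S : Scheme.{u}} (f : X ⟶ S) [LocallyOfFiniteType f] [QuasiCompact f]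
    {n : ℕ} (i : X ⟶ CohB1.ProjSpaceOver n S) (hi : IsImmersion i)
    (hif : i ≫ CohB1.ProjSpaceOver.toBase n S = f) : RelProj.IsQuasiProjective f :=
  ⟨inferInstance, inferInstance, _, inferInstance, fun V => AmpleImm18.isAmple_restrict_twistOver f i hif V.2⟩

/-- Chow's lemma for a cover by affine opens containing `U`. -/
theorem chow_projective_of_cover {X S : Scheme.{u}} (f : X ⟶ S) [QuasiSeparatedSpace S] [IsSeparated f]
    [LocallyOfFiniteType f] [QuasiCompact f] {k : ℕ} (O : Fin k → X.Opens) (hOa : ∀ i, IsAffineOpen (O i))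
    (hO : ∀ x, ∃ i, x ∈ O i) (U : X.Opens) (hU : IsCompact (U : Set X)) (hUO : ∀ i, U ≤ O i) :
    ∃ (X' : Scheme.{u}) (π : X' ⟶ X),
      RelProj.IsHProjective π ∧ RelProj.IsQuasiProjective (π ≫ f) ∧
      (∃ (N : ℕ) (j : X' ⟶ CohB1.ProjSpaceOver N S), IsImmersion j ∧
        j ≫ CohB1.ProjSpaceOver.toBase N S = π ≫ f) ∧ IsIso (π ∣_ U) ∧
      (Dense (U : Set X) → Surjective π) ∧ Dense ((π ⁻¹ᵁ U : X'.Opens) : Set X') ∧
      (IsReduced X → IsReduced X') ∧ (IrreducibleSpace X → Nonempty U → IrreducibleSpace X') := by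
  haveI : ∀ i, IsAffine (O i : Scheme.{u}) := hOa
  choose n j hji hj using fun i => exists_immersion_projSpace S ((O i).ι ≫ f)
  obtain ⟨N, P, p, e, pr, he, hep, hpr, huniv⟩ := exists_prod S k n
  haveI : IsProper p := by rw [← hep]; infer_instance
  obtain ⟨g, hg, hgj⟩ := huniv (U.ι ≫ f) (fun i => X.homOfLE (hUO i) ≫ j i)
    fun i => by simp [hj]
  haveI : QuasiSeparatedSpace X := quasiSeparatedSpace_of_quasiSeparated f
  haveI : CompactSpace (U : Scheme.{u}) := isCompact_iff_compactSpace.1 hU
  haveI : IsSeparated (pullback.fst f p) := MorphismProperty.pullback_fst _ _ inferInstance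
  haveI : QuasiCompact (graphU U g hg ≫ pullback.fst f p) := by
    rw [graphU, pullback.lift_fst]
    infer_instance
  haveI : QuasiCompact (graphU U g hg) := QuasiCompact.of_comp (graphU U g hg) (pullback.fst f p)
  haveI := isImmersion_chowq U g hg O hO hUO (fun i => CohB1.ProjSpaceOver (n i) S)
    (fun i => CohB1.ProjSpaceOver.toBase (n i) S) pr hpr j hj hgj
  haveI := isProper_chowπ U g hg
  haveI : IsImmersion (chowq U g hg ≫ e) := inferInstance
  let m : pullback f p ⟶ pullback f (CohB1.ProjSpaceOver.toBase N S) :=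
    pullback.map f p f (CohB1.ProjSpaceOver.toBase N S) (𝟙 X) e (𝟙 S) (by simp) (by simp [hep])
  haveI : IsClosedImmersion m := by
    have hm : IsPullback m (pullback.snd f p) (pullback.snd f (CohB1.ProjSpaceOver.toBase N S)) e := by
      have h := IsPullback.of_hasPullback f p
      have h1 : m ≫ pullback.fst f (CohB1.ProjSpaceOver.toBase N S) = pullback.fst f p :=
        (pullback.lift_fst _ _ _).trans (Category.comp_id _)
      have h' : IsPullback (m ≫ pullback.fst f (CohB1.ProjSpaceOver.toBase N S)) (pullback.snd f p) f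
          (e ≫ CohB1.ProjSpaceOver.toBase N S) := h1.symm ▸ hep.symm ▸ h
      exact IsPullback.of_right h' (pullback.lift_snd _ _ _) (IsPullback.of_hasPullback _ _)
    exact MorphismProperty.of_isPullback (P := @IsClosedImmersion) hm.flip he
  have hqc : QuasiCompact (chowπ U g hg ≫ f) := inferInstance
  have hsub : Set.range (graphU U g hg).toImage ⊆ ((chowπ U g hg) ⁻¹ᵁ U : (chowScheme U g hg).Opens) := by
    rintro _ ⟨x, rfl⟩
    show chowπ U g hg ((graphU U g hg).toImage x) ∈ U
    rw [← Scheme.Hom.comp_apply, chowπ, Scheme.Hom.toImage_imageι_assoc]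
    simp [graphU]
  refine ⟨_, chowπ U g hg, ⟨N, (graphU U g hg).imageι ≫ m ≫ (overIso f N).inv, inferInstance, ?_⟩,
    isQuasiProjective_of_isImmersion _ (chowq U g hg ≫ e) inferInstance (by rw [Category.assoc, hep, chowq_comp]),
    ⟨N, chowq U g hg ≫ e, inferInstance, by rw [Category.assoc, hep, chowq_comp]⟩,
    isIso_chowπ_restrict U g hg, surjective_chowπ U g hg, ?_, fun hr => ?_, fun hirr hne => ?_⟩
  · rw [← overIso_hom_fst f N, Category.assoc, Category.assoc, Iso.inv_hom_id_assoc]
    simp only [chowπ, m, pullback.lift_fst, Category.comp_id, pullback.map]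
  · exact Dense.mono hsub (graphU U g hg).toImage.denseRange
  · haveI := hr
    exact SchImage14.isReduced_image (graphU U g hg)
  · haveI := hirr
    have hUi : IsIrreducible (U : Set X) :=
      ⟨Set.nonempty_coe_sort.1 hne, (PreirreducibleSpace.isPreirreducible_univ).open_subset U.2 (Set.subset_univ _)⟩
    haveI : IrreducibleSpace (U : Scheme.{u}) :=
      { isPreirreducible_univ := (Subtype.preirreducibleSpace hUi.2).isPreirreducible_univ
        toNonempty := hne }
    have h := (IrreducibleSpace.isIrreducible_univ (U : Scheme.{u})).image (graphU U g hg).toImage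
      (graphU U g hg).toImage.continuous.continuousOn
    rw [Set.image_univ] at h
    have hc := h.closure
    rw [(graphU U g hg).toImage.denseRange.closure_range] at hc
    exact (irreducibleSpace_def _).2 hc

/-- Chow's lemma with projective modification, finitely many irreducible components. -/
theorem chow_projective_finite {X S : Scheme.{u}} (f : X ⟶ S) [CompactSpace S] [QuasiSeparatedSpace S]
    [IsSeparated f] [LocallyOfFiniteType f] [QuasiCompact f]
    (hirr : (irreducibleComponents (X : Type u)).Finite) :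
    ∃ (X' : Scheme.{u}) (π : X' ⟶ X),
      RelProj.IsHProjective π ∧ RelProj.IsQuasiProjective (π ≫ f) ∧
      (∃ (N : ℕ) (j : X' ⟶ CohB1.ProjSpaceOver N S), IsImmersion j ∧
        j ≫ CohB1.ProjSpaceOver.toBase N S = π ≫ f) ∧ Surjective π ∧
      (∃ U : X.Opens, Dense (U : Set X) ∧ Dense ((π ⁻¹ᵁ U : X'.Opens) : Set X') ∧ IsIso (π ∣_ U)) ∧
      (IsReduced X → IsReduced X') ∧ (IrreducibleSpace X → IrreducibleSpace X') := by
  classical
  haveI : CompactSpace X := QuasiCompact.compactSpace_of_compactSpace f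
  haveI : QuasiSeparatedSpace X := quasiSeparatedSpace_of_quasiSeparated f
  choose V hV hxV hGV using exists_dense_affineOpen hirr
  obtain ⟨s, hs⟩ := (isCompact_univ (X := X)).elim_finite_subcover (fun x => (V x : Set X))
    (fun x => (V x).2) (fun x _ => Set.mem_iUnion.mpr ⟨x, hxV x⟩)
  let k := Fintype.card s
  let O : Fin k → X.Opens := fun i => V ((Fintype.equivFin s).symm i).1
  let U : X.Opens := Finset.univ.inf O
  have hUc : IsCompact (U : Set X) := by
    have : ∀ t : Finset (Fin k), IsCompact ((t.inf O : X.Opens) : Set X) := fun t => by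
      induction t using Finset.induction with
      | empty => simpa using isCompact_univ
      | insert a t _ ih =>
        rw [Finset.inf_insert, Opens.coe_inf]
        exact QuasiSeparatedSpace.inter_isCompact _ _ (O a).2 (hV _).isCompact (t.inf O).2 ih
    exact this _
  have hUd : Dense (U : Set X) := by
    refine Dense.mono (s₁ := genericPoints (X : Type u)) (fun g hg => ?_) ?_
    · have hU : ∀ t : Finset (Fin k), g ∈ t.inf O := fun t => by
        induction t using Finset.induction with
        | empty => simp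
        | insert a t _ ih => rw [Finset.inf_insert]; exact ⟨hGV _ hg, ih⟩
      exact hU _
    · exact dense_iff_closure_eq.2 genericPoints.closure
  obtain ⟨X', π, h1, h2, h3, h4, h5, h6, h7, h8⟩ := chow_projective_of_cover f O (fun i => hV _)
    (fun x => by
      obtain ⟨y, hy, hxy⟩ := Set.mem_iUnion₂.mp (hs (Set.mem_univ x))
      exact ⟨Fintype.equivFin s ⟨y, hy⟩, by simpa [O] using hxy⟩)
    U hUc (fun i => Finset.inf_le (Finset.mem_univ i))
  exact ⟨X', π, h1, h2, h3, h5 hUd, ⟨U, hUd, h6, h4⟩, h7, fun hi => h8 hi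
    (hUd.nonempty.to_subtype)⟩

theorem isClosedImmersion_of_isImmersion_of_isProper {X Y : Scheme.{u}} (i : X ⟶ Y) [IsImmersion i] [IsProper i] :
    IsClosedImmersion i :=
  IsClosedImmersion.of_isPreimmersion i i.isClosedMap.isClosed_range

theorem finite_irreducibleComponents {X S : Scheme.{u}} (r : X ⟶ S) [LocallyOfFiniteType r] [QuasiCompact r]
    (h : IsNoetherian S ∨ (CompactSpace S ∧ S.IsSeparated ∧ (irreducibleComponents X).Finite)) :
    CompactSpace S ∧ QuasiSeparatedSpace S ∧ (irreducibleComponents X).Finite := by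
  rcases h with h | ⟨h1, h2, h3⟩
  · haveI := h
    haveI : IsLocallyNoetherian X := LocallyOfFiniteType.isLocallyNoetherian r
    haveI : CompactSpace X := QuasiCompact.compactSpace_of_compactSpace r
    haveI : AlgebraicGeometry.IsNoetherian X := ⟨⟩
    exact ⟨inferInstance, inferInstance, TopologicalSpace.NoetherianSpace.finite_irreducibleComponents⟩
  · haveI := h2
    exact ⟨h1, inferInstance, h3⟩

theorem chow_projective_nonempty {X S : Scheme.{u}} (f : X ⟶ S) [CompactSpace S] [QuasiSeparatedSpace S]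
    [IsSeparated f] [LocallyOfFiniteType f] [QuasiCompact f] [Nonempty X] :
    ∃ (X' : Scheme.{u}) (π : X' ⟶ X), RelProj.IsHProjective π ∧ RelProj.IsQuasiProjective (π ≫ f) ∧
      ∃ U : X.Opens, (U : Set X).Nonempty ∧ IsIso (π ∣_ U) := by
  classical
  haveI : CompactSpace X := QuasiCompact.compactSpace_of_compactSpace f
  haveI : QuasiSeparatedSpace X := quasiSeparatedSpace_of_quasiSeparated f
  choose V hV hxV _ using fun x : X =>
    exists_isAffineOpen_mem_and_subset (x := x) (U := (⊤ : X.Opens)) trivial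
  obtain ⟨t, ht⟩ := (isCompact_univ (X := X)).elim_finite_subcover (fun x => (V x : Set X))
    (fun x => (V x).2) (fun x _ => Set.mem_iUnion.mpr ⟨x, hxV x⟩)
  have hW : ∀ r : Finset X, ∃ W : X.Opens, (W : Set X).Nonempty ∧ ∀ x ∈ r, W ≤ V x ∨ Disjoint W (V x) := fun r => by
    induction r using Finset.induction with
    | empty => exact ⟨⊤, by simp, by simp⟩
    | insert a r _ ih =>
      obtain ⟨W, hne, hW⟩ := ih
      by_cases hd : Disjoint W (V a)
      · exact ⟨W, hne, fun x hx => by
          rcases Finset.mem_insert.1 hx with rfl | hx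
          exacts [Or.inr hd, hW x hx]⟩
      · refine ⟨W ⊓ V a, ?_, fun x hx => ?_⟩
        · by_contra he
          exact hd (disjoint_iff.2 (Opens.ext (Set.not_nonempty_iff_eq_empty.1 he)))
        · rcases Finset.mem_insert.1 hx with rfl | hx
          · exact Or.inl inf_le_right
          · exact (hW x hx).imp inf_le_left.trans fun h => h.mono_left inf_le_left
  obtain ⟨W, ⟨w, hw⟩, hW⟩ := hW t
  obtain ⟨U, hUa, hwU, hUW⟩ := exists_isAffineOpen_mem_and_subset (x := w) (U := W) hw
  haveI : IsAffine (U : Scheme.{u}) := hUa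
  haveI : QuasiCompact U.ι := QuasiCompact.of_comp U.ι (terminal.from X)
  let z := U.ι.imageι
  let idx := {x : t // U ≤ V x.1}
  let k := Fintype.card idx
  let O : Fin k → U.ι.image.Opens := fun i => z ⁻¹ᵁ V ((Fintype.equivFin idx).symm i).1.1
  have hz : ∀ u : (U : Scheme.{u}), z (U.ι.toImage u) = u.1 := fun u => by
    rw [← Scheme.Hom.comp_apply, Scheme.Hom.toImage_imageι]
    rfl
  have hcov : ∀ y, ∃ i, y ∈ O i := fun y => by
    obtain ⟨x, hx, hyx⟩ := Set.mem_iUnion₂.mp (ht (Set.mem_univ (z y)))
    obtain ⟨u, hu⟩ := U.ι.toImage.denseRange.exists_mem_open (z ⁻¹ᵁ V x).2 ⟨y, hyx⟩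
    have hu' : u.1 ∈ V x := hz u ▸ hu
    have hle : U ≤ V x := (hW x hx).elim (fun h => hUW.trans h) fun h =>
      absurd (show u.1 ∈ (⊥ : X.Opens) from h.le_bot ⟨hUW u.2, hu'⟩) id
    exact ⟨Fintype.equivFin idx ⟨⟨x, hx⟩, hle⟩, by simpa [O] using hyx⟩
  haveI : IsSeparated (z ≫ f) := inferInstance
  obtain ⟨X', π, h1, h2, -, h4, -⟩ := chow_projective_of_cover (z ≫ f) O (fun i => (hV _).preimage z) hcov
    (z ⁻¹ᵁ U) (hUa.preimage z).isCompact
    (fun i => z.preimage_mono ((Fintype.equivFin idx).symm i).2)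
  refine ⟨X', π ≫ z, isHProjective_comp_of_isClosedImmersion h1 z, by rwa [Category.assoc], U, ⟨w, hwU⟩, ?_⟩
  haveI := h4
  haveI : IsIso (z ∣_ U) := by
    haveI : IsIso (U.ι ∣_ U) := isIso_restrict_self U _ rfl
    have hk := ker_imageι_restrict U.ι U
    haveI : IsClosedImmersion (U.ι ∣_ U) := inferInstance
    haveI : IsClosedImmersion (z ∣_ U) := IsZariskiLocalAtTarget.restrict (P := @IsClosedImmersion) (f := z) inferInstance U
    haveI := IsClosedImmersion.isIso_lift (z ∣_ U) (U.ι ∣_ U) hk
    haveI : IsIso (IsClosedImmersion.lift (z ∣_ U) (U.ι ∣_ U) hk.le ≫ (z ∣_ U)) := by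
      rw [IsClosedImmersion.lift_fac]; infer_instance
    exact IsIso.of_isIso_comp_left (IsClosedImmersion.lift (z ∣_ U) (U.ι ∣_ U) hk.le) _
  rw [morphismRestrict_comp]
  infer_instance

end Groth.Agent.QuotProj11
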