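import Groth.Agent.Lib.QuotProj11.Poly

/-!
Projective morphisms are proper.
-/

set_option autoImplicit false

universe u

open CategoryTheory CategoryTheory.Limits AlgebraicGeometry TopologicalSpace Opposite DirectSum
open scoped HomogeneousIdeal

set_option backward.isDefEq.respectTransparency false

noncomputable section

namespace Groth.Agent.QuotProj11

section alg

variable {R A : Type u} [CommRing R] [CommRing A] (𝒜 : ℕ → AddSubgroup A) [GradedRing 𝒜]

/-- Evaluation at elements of degree one, as a graded homomorphism. -/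
def evalHom (s : R →+* A) (hs : ∀ r, s r ∈ 𝒜 0) (n : ℕ) (t : Fin (n + 1) → A) (ht : ∀ i, t i ∈ 𝒜 1) :
    CohB1.polyGrading n R →+*ᵍ 𝒜 :=
  { MvPolynomial.eval₂Hom s t with
    map_mem := fun {d} p hp => by
      show MvPolynomial.eval₂Hom s t p ∈ 𝒜 d
      rw [p.as_sum, map_sum]
      refine sum_mem fun v hv => ?_
      rw [MvPolynomial.eval₂Hom_monomial]
      have hd : Finsupp.degree v = d := by
        rw [Finsupp.degree_eq_weight_one]
        exact hp (MvPolynomial.mem_support_iff.1 hv)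
      have h1 : v.prod (fun i k => t i ^ k) ∈ 𝒜 d := by
        rw [← hd, Finsupp.degree_apply]
        have h := SetLike.prod_pow_mem_graded 𝒜 (fun _ => 1) t (F := v.support) (fun i => v i) fun i _ => ht i
        simpa [Finsupp.prod] using h
      simpa using SetLike.mul_mem_graded (hs _) h1 }

variable (s : R →+* A) (hs : ∀ r, s r ∈ 𝒜 0) (n : ℕ) (t : Fin (n + 1) → A) (ht : ∀ i, t i ∈ 𝒜 1)

theorem surjOn_evalHom (hgen : Subring.closure ((𝒜 0 : Set A) ∪ (𝒜 1 : Set A)) = ⊤)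
    (hspan : ∀ x ∈ 𝒜 1, ∃ c : Fin (n + 1) → R, x = ∑ i, s (c i) * t i) (d : ℕ) (hd : 0 < d) :
    Set.SurjOn (evalHom 𝒜 s hs n t ht) (CohB1.polyGrading n R d : Set _) (𝒜 d) := by
  classical
  let e := evalHom 𝒜 s hs n t ht
  have heC : ∀ r, e (MvPolynomial.C r) = s r := fun r => MvPolynomial.eval₂Hom_C s t r
  have heX : ∀ i, e (MvPolynomial.X i) = t i := fun i => MvPolynomial.eval₂Hom_X' s t i
  have h1 : ∀ x ∈ 𝒜 1, ∃ p, x = e p := fun x hx => by
    obtain ⟨c, rfl⟩ := hspan x hx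
    exact ⟨∑ i, MvPolynomial.C (c i) * MvPolynomial.X i, by simp [heC, heX]⟩
  let N : Set A := {x | ∃ a ∈ 𝒜 0, ∃ p, x = a + e p}
  have hN1 : ∀ a ∈ 𝒜 0, ∀ p, a * e p ∈ N := by
    intro a ha p
    induction p using MvPolynomial.induction_on with
    | C r => exact ⟨a * s r, by simpa using SetLike.mul_mem_graded ha (hs r), 0, by simp [heC]⟩
    | add p q hp hq =>
      obtain ⟨b, hb, p', hp'⟩ := hp
      obtain ⟨c, hc, q', hq'⟩ := hq
      exact ⟨b + c, add_mem hb hc, p' + q', by rw [map_add, mul_add, hp', hq', map_add]; ring⟩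
    | mul_X p i hp =>
      obtain ⟨b, hb, p', hp'⟩ := hp
      obtain ⟨q, hq⟩ := h1 (b * t i) (by simpa using SetLike.mul_mem_graded hb (ht i))
      exact ⟨0, zero_mem _, q + p' * MvPolynomial.X i, by
        rw [map_mul, ← mul_assoc, hp', heX, add_mul, hq, zero_add, map_add, map_mul, heX]⟩
  let B : Subring A :=
    { carrier := N
      zero_mem' := ⟨0, zero_mem _, 0, by simp⟩
      one_mem' := ⟨1, SetLike.one_mem_graded 𝒜, 0, by simp⟩
      neg_mem' := fun {x} ⟨a, ha, p, hx⟩ => ⟨-a, neg_mem ha, -p, by rw [hx, map_neg, neg_add]⟩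
      add_mem' := fun {x y} ⟨a, ha, p, hx⟩ ⟨b, hb, q, hy⟩ => ⟨a + b, add_mem ha hb, p + q, by
        rw [hx, hy, map_add]; ring⟩
      mul_mem' := fun {x y} ⟨a, ha, p, hx⟩ ⟨b, hb, q, hy⟩ => by
        obtain ⟨c, hc, p', hp'⟩ := hN1 a ha q
        obtain ⟨c', hc', q', hq'⟩ := hN1 b hb p
        refine ⟨a * b + c + c', add_mem (add_mem (by simpa using SetLike.mul_mem_graded ha hb) hc) hc',
          p' + q' + p * q, ?_⟩
        rw [hx, hy, map_add, map_add, map_mul]
        linear_combination hp' + hq' }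
  have hB : B = ⊤ := by
    rw [eq_top_iff, ← hgen, Subring.closure_le]
    rintro x (hx | hx)
    · exact ⟨x, hx, 0, by simp⟩
    · obtain ⟨p, hp⟩ := h1 x hx
      exact ⟨0, zero_mem _, p, by rw [hp, zero_add]⟩
  intro x hx
  obtain ⟨a, ha, p, hap⟩ : x ∈ B := hB ▸ Subring.mem_top x
  refine ⟨DirectSum.decompose (CohB1.polyGrading n R) p d, SetLike.coe_mem _, ?_⟩
  rw [GradedRingHom.map_directSumDecompose]
  have hd' := congrArg (fun y => (DirectSum.decompose 𝒜 y d : A)) hap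
  simp only [DirectSum.decompose_add, DirectSum.add_apply, AddSubgroup.coe_add] at hd'
  rw [DirectSum.decompose_of_mem_same 𝒜 hx, DirectSum.decompose_of_mem_ne 𝒜 ha hd.ne, zero_add] at hd'
  exact hd'.symm

theorem irrelevant_evalHom (hgen : Subring.closure ((𝒜 0 : Set A) ∪ (𝒜 1 : Set A)) = ⊤)
    (hspan : ∀ x ∈ 𝒜 1, ∃ c : Fin (n + 1) → R, x = ∑ i, s (c i) * t i) :
    𝒜₊ ≤ ((CohB1.polyGrading n R)₊).map (evalHom 𝒜 s hs n t ht) := by
  rw [HomogeneousIdeal.irrelevant_le]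
  intro d hd x hx
  obtain ⟨p, hp, rfl⟩ := surjOn_evalHom 𝒜 s hs n t ht hgen hspan d hd hx
  exact Ideal.mem_map_of_mem _ (HomogeneousIdeal.mem_irrelevant_of_mem _ hd hp)

end alg

variable {S P : Scheme.{u}} {𝒮 : RelProj.QCGrAlg S} {p : P ⟶ S}
  {chart : ∀ (U : S.Opens) (hU : IsAffineOpen U), ((p ⁻¹ᵁ U : P.Opens) : Scheme.{u}) ≅ Proj (𝒮.deg U hU)}

/-- Over an affine open, a finite family of degree one generators gives a closed immersion into projective space. -/
theorem exists_closedImmersion_projSpace (hgen : 𝒮.IsGenDegOne) (hft : 𝒮.IsFTDeg 1) (U : S.Opens)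
    (hU : IsAffineOpen U) :
    ∃ (n : ℕ) (c : Proj (𝒮.deg U hU) ⟶ CohB1.ProjSpace n Γ(S, U)), IsClosedImmersion c ∧
      c ≫ CohB1.ProjSpace.toSpec n Γ(S, U) = Proj.toSpecZero (𝒮.deg U hU) ≫ Spec.map (𝒮.strZero U hU) := by
  classical
  obtain ⟨T, hT, hspan⟩ := hft U hU
  let t : Fin (T.card + 1) → 𝒮.presheaf.obj (op U) :=
    fun i => Fin.cases 0 (fun j => (T.equivFin.symm j : 𝒮.presheaf.obj (op U))) i
  have ht : ∀ i, t i ∈ 𝒮.deg U hU 1 := fun i => by
    induction i using Fin.cases with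
    | zero => exact zero_mem _
    | succ j => exact hT (T.equivFin.symm j).2
  have hsp : ∀ x ∈ 𝒮.deg U hU 1, ∃ c : Fin (T.card + 1) → Γ(S, U),
      x = ∑ i, (𝒮.str.app (op U)).hom (c i) * t i := fun x hx => by
    obtain ⟨c, rfl⟩ := hspan x hx
    refine ⟨fun i => c (t i), ?_⟩
    rw [Fin.sum_univ_succ]
    simp only [t, Fin.cases_zero, Fin.cases_succ, mul_zero, zero_add]
    rw [← Finset.sum_coe_sort T, ← T.equivFin.symm.sum_comp]
  let ψ := evalHom (𝒮.deg U hU) (𝒮.str.app (op U)).hom (𝒮.str_mem U hU) T.card t ht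
  have hψ := irrelevant_evalHom (𝒮.deg U hU) (𝒮.str.app (op U)).hom (𝒮.str_mem U hU) T.card t ht (hgen U hU) hsp
  refine ⟨T.card, Proj.map ψ hψ,
    RelProj11.isClosedImmersion_map ψ hψ fun d hd => surjOn_evalHom _ _ _ _ _ _ (hgen U hU) hsp d hd, ?_⟩
  unfold CohB1.ProjSpace.toSpec
  rw [reassoc_of% (RelProj11.map_toSpecZero (ψ := ψ) hψ), ← Spec.map_comp]
  congr 2
  exact CommRingCat.hom_ext (RingHom.ext fun r => Subtype.ext (MvPolynomial.eval₂Hom_C (𝒮.str.app (op U)).hom t r))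

theorem isProper_of_isRelProj (hP : RelProj.IsRelProj 𝒮 p chart) (hgen : 𝒮.IsGenDegOne) (hft : 𝒮.IsFTDeg 1) :
    IsProper p := by
  refine RelProj11.of_forall_affine hP @IsProper fun U hU => ?_
  obtain ⟨n, c, hc, e⟩ := exists_closedImmersion_projSpace hgen hft U hU
  rw [← e]
  infer_instance

/-- A projective morphism is proper. -/
theorem isProper_of_isProjective {X T : Scheme.{u}} {f : X ⟶ T} (hf : RelProj.IsProjective f) : IsProper f := by
  obtain ⟨𝒯, Q, q, ch, e, hgen, hft, hQ, rfl⟩ := hf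
  haveI := isProper_of_isRelProj hQ hgen hft
  infer_instance

/-- An H-projective morphism is proper. -/
theorem isProper_of_isHProjective {X T : Scheme.{u}} {f : X ⟶ T} (hf : RelProj.IsHProjective f) : IsProper f := by
  obtain ⟨n, i, hi, rfl⟩ := hf
  infer_instance

end Groth.Agent.QuotProj11
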