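import Groth.Agent.Lib.SymAlg11.OfAffine
import Groth.Agent.Lib.RelProj11.Map

/-!
A quasi-coherent graded algebra from graded rings on the affine opens.
-/

set_option autoImplicit false

universe u

open CategoryTheory CategoryTheory.Limits AlgebraicGeometry TopologicalSpace Opposite DirectSum
open scoped HomogeneousIdeal

set_option backward.isDefEq.respectTransparency false

noncomputable section

namespace Groth.Agent.QuotProj11

open Groth.Agent.SymAlg11
open Scheme.AffineZariskiSite (toOpens toOpens_mono toOpensFunctor)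

section transport

variable {A B : Type u} [CommRing A] [CommRing B] (e : A ≃+* B) (ℬ : ℕ → AddSubgroup B) [GradedRing ℬ]

/-- The grading transported along a ring isomorphism. -/
def comapDeg (n : ℕ) : AddSubgroup A := (ℬ n).comap e.toAddMonoidHom

theorem mem_comapDeg {n : ℕ} {a : A} : a ∈ comapDeg e ℬ n ↔ e a ∈ ℬ n := Iff.rfl

instance comapGradedMonoid : SetLike.GradedMonoid (comapDeg e ℬ) where
  one_mem := by
    rw [mem_comapDeg, map_one]
    exact SetLike.one_mem_graded ℬ
  mul_mem i j a b ha hb := by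
    rw [mem_comapDeg, map_mul]
    exact SetLike.mul_mem_graded (A := ℬ) ha hb

/-- The pieces of the transported grading. -/
def comapPiece (n : ℕ) : ℬ n →+ comapDeg e ℬ n :=
  AddMonoidHom.mk' (fun b => ⟨e.symm b, by rw [mem_comapDeg, e.apply_symm_apply]; exact b.2⟩)
    fun a b => Subtype.ext (map_add e.symm (a : B) b)

/-- The transported decomposition. -/
def comapDecompose : A →+ ⨁ n, comapDeg e ℬ n :=
  ((DirectSum.map (comapPiece e ℬ)).comp (DirectSum.decomposeAddEquiv ℬ).toAddMonoidHom).comp e.toAddMonoidHom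

theorem comapDecompose_of_mem {n : ℕ} {a : A} (ha : a ∈ comapDeg e ℬ n) :
    comapDecompose e ℬ a = DirectSum.of (fun n => comapDeg e ℬ n) n ⟨a, ha⟩ := by
  show DirectSum.map (comapPiece e ℬ) (DirectSum.decompose ℬ (e a)) = _
  rw [DirectSum.decompose_of_mem ℬ (show e a ∈ ℬ n from ha), DirectSum.map_of]
  congr 1
  exact Subtype.ext (e.symm_apply_apply a)

instance comapGradedRing : GradedRing (comapDeg e ℬ) where
  decompose' := comapDecompose e ℬ
  left_inv a := by
    obtain ⟨b, rfl⟩ := e.symm.surjective a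
    induction b using DirectSum.Decomposition.inductionOn ℬ with
    | zero => simp only [map_zero]
    | add x y hx hy => simp only [map_add, hx, hy]
    | @homogeneous n x =>
      rw [comapDecompose_of_mem e ℬ (n := n) (by rw [mem_comapDeg, e.apply_symm_apply]; exact x.2),
        DirectSum.coeAddMonoidHom_of]
  right_inv d := by
    induction d using DirectSum.induction_on with
    | zero => simp only [map_zero]
    | of i x =>
      rw [DirectSum.coeAddMonoidHom_of]
      exact comapDecompose_of_mem e ℬ x.2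
    | add a b ha hb => simp only [map_add, ha, hb]

end transport

variable {S : Scheme.{u}} {F : S.AffineZariskiSiteᵒᵖ ⥤ CommRingCat.{u}}
  {α : (toOpensFunctor S).op ⋙ S.presheaf ⟶ F} (H : α.Coequifibered)
  (dF : ∀ U : S.AffineZariskiSite, ℕ → AddSubgroup (F.obj (op U))) [∀ U, GradedRing (dF U)]
  (hmap : ∀ {U V : S.AffineZariskiSite} (i : V ⟶ U) (n : ℕ) (x : F.obj (op U)),
    x ∈ dF U n → (F.map i.op).hom x ∈ dF V n)
  (hstr : ∀ (U : S.AffineZariskiSite) (r : Γ(S, U.1)), (α.app (op U)).hom r ∈ dF U 0)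

/-- Sections over an affine open. -/
def affEquiv (U : S.AffineZariskiSite) : (ofAffine H).presheaf.obj (op U.1) ≃+* F.obj (op U) :=
  (asIso (affApp H U)).commRingCatIsoToRingEquiv

theorem affEquiv_str (U : S.AffineZariskiSite) (r : Γ(S, U.1)) :
    affEquiv H U (((ofAffine H).str.app (op U.1)).hom r) = (α.app (op U)).hom r :=
  ConcreteCategory.congr_hom (str_affApp H U) r

theorem affEquiv_res {U V : S.AffineZariskiSite} (i : V ⟶ U) (a : (ofAffine H).presheaf.obj (op U.1)) :
    affEquiv H V (((ofAffine H).presheaf.map (homOfLE (toOpens_mono i.le)).op).hom a) =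
      (F.map i.op).hom (affEquiv H U a) :=
  ConcreteCategory.congr_hom ((affIso H).hom.naturality i.op) a

/-- The grading on the sections over an affine open. -/
def degG (U : S.Opens) (hU : IsAffineOpen U) : ℕ → AddSubgroup ((ofAffine H).presheaf.obj (op U)) :=
  comapDeg (affEquiv H ⟨U, hU⟩) (dF ⟨U, hU⟩)

instance (U : S.Opens) (hU : IsAffineOpen U) : GradedRing (degG H dF U hU) :=
  comapGradedRing (affEquiv H ⟨U, hU⟩) (dF ⟨U, hU⟩)

theorem degG_str (hstr : ∀ (U : S.AffineZariskiSite) (r : Γ(S, U.1)), (α.app (op U)).hom r ∈ dF U 0)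
    (U : S.Opens) (hU : IsAffineOpen U) (r : Γ(S, U)) :
    ((ofAffine H).str.app (op U)).hom r ∈ degG H dF U hU 0 := by
  show affEquiv H ⟨U, hU⟩ _ ∈ dF ⟨U, hU⟩ 0
  rw [affEquiv_str H ⟨U, hU⟩ r]
  exact hstr ⟨U, hU⟩ r

include hmap in
theorem degG_map_basic {U V : S.Opens} (hU : IsAffineOpen U) (hV : IsAffineOpen V) (i : V ≤ U)
    (r : Γ(S, U)) (e : V = S.basicOpen r) {d : ℕ} {x : (ofAffine H).presheaf.obj (op U)}
    (hx : x ∈ degG H dF U hU d) : ((ofAffine H).presheaf.map (homOfLE i).op).hom x ∈ degG H dF V hV d := by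
  let U' : S.AffineZariskiSite := ⟨U, hU⟩
  let V' : S.AffineZariskiSite := ⟨V, hV⟩
  have hle : V' ≤ U' := ⟨r, e.symm⟩
  let j : V' ⟶ U' := homOfLE hle
  have h := hmap j d _ hx
  exact Eq.mp (congrArg (· ∈ dF V' d) (affEquiv_res H j x).symm) h

include hmap hstr in
theorem degG_map {U V : S.Opens} (hU : IsAffineOpen U) (hV : IsAffineOpen V) (i : V ≤ U) {d : ℕ}
    {x : (ofAffine H).presheaf.obj (op U)} (hx : x ∈ degG H dF U hU d) :
    ((ofAffine H).presheaf.map (homOfLE i).op).hom x ∈ degG H dF V hV d := by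
  classical
  set y := ((ofAffine H).presheaf.map (homOfLE i).op).hom x
  -- the components of `y` of degree `≠ d` vanish locally, hence vanish
  have key : ∀ n, n ≠ d → (DirectSum.decompose (degG H dF V hV) y n : (ofAffine H).presheaf.obj (op V)) = 0 := by
    intro n hn
    have hcov : ∀ v : S, v ∈ V → ∃ (g : Γ(S, U)) (h : Γ(S, V)), S.basicOpen g = S.basicOpen h ∧ v ∈ S.basicOpen h := by
      intro v hv
      obtain ⟨g, h, e, hv'⟩ := exists_basicOpen_le_affine_inter hU hV v ⟨i hv, hv⟩
      exact ⟨g, h, e, e ▸ hv'⟩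
    choose g h e hv using fun v : V => hcov v.1 v.2
    let Fs : TopCat.Sheaf CommRingCat S.toTopCat := ⟨(ofAffine H).presheaf, (ofAffine H).isSheaf⟩
    refine Fs.eq_of_locally_eq' (fun v : V => S.basicOpen (h v)) V
      (fun v => homOfLE (S.basicOpen_le _)) (fun v hv' => Opens.mem_iSup.2 ⟨⟨v, hv'⟩, hv ⟨v, hv'⟩⟩) _ 0 fun v => ?_
    rw [map_zero]
    have hD := hV.basicOpen (h v)
    let ρ : degG H dF V hV →+*ᵍ degG H dF (S.basicOpen (h v)) hD :=
      { ((ofAffine H).presheaf.map (homOfLE (S.basicOpen_le (h v))).op).hom with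
        map_mem := fun hz => degG_map_basic H dF hmap hV hD _ (h v) rfl hz }
    show ρ (DirectSum.decompose (degG H dF V hV) y n : _) = 0
    rw [GradedRingHom.map_directSumDecompose]
    have hρy : ρ y ∈ degG H dF (S.basicOpen (h v)) hD d := by
      have := degG_map_basic H dF hmap hU hD ((S.basicOpen_le _).trans i) (g v) (e v).symm hx
      show ((ofAffine H).presheaf.map _).hom (((ofAffine H).presheaf.map _).hom x) ∈ _
      rw [← ConcreteCategory.comp_apply, ← Functor.map_comp]
      exact this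
    exact DirectSum.decompose_of_mem_ne _ hρy hn.symm
  rw [← DirectSum.sum_support_decompose (degG H dF V hV) y]
  refine AddSubgroup.sum_mem _ fun n _ => ?_
  by_cases hn : n = d
  · subst hn; exact SetLike.coe_mem _
  · rw [key n hn]; exact zero_mem _

/-- The quasi-coherent graded algebra. -/
def grAlg : RelProj.QCGrAlg S where
  toQCAlg := ofAffine H
  deg U hU := degG H dF U hU
  graded U hU := inferInstance
  map_mem hU hV i _ _ hx := degG_map H dF hmap hstr hU hV i hx
  str_mem := degG_str H dF hstr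

/-- To the given graded rings. -/
def toF (U : S.Opens) (hU : IsAffineOpen U) : (grAlg H dF hmap hstr).deg U hU →+*ᵍ dF ⟨U, hU⟩ :=
  { (affEquiv H ⟨U, hU⟩).toRingHom with map_mem := fun hx => hx }

/-- From the given graded rings. -/
def fromF (U : S.Opens) (hU : IsAffineOpen U) : dF ⟨U, hU⟩ →+*ᵍ (grAlg H dF hmap hstr).deg U hU :=
  { (affEquiv H ⟨U, hU⟩).symm.toRingHom with
    map_mem := fun {n x} hx => by
      show affEquiv H ⟨U, hU⟩ ((affEquiv H ⟨U, hU⟩).symm x) ∈ dF ⟨U, hU⟩ n
      rw [RingEquiv.apply_symm_apply]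
      exact hx }

theorem toF_apply (U : S.Opens) (hU : IsAffineOpen U) (x : (ofAffine H).presheaf.obj (op U)) :
    toF H dF hmap hstr U hU x = affEquiv H ⟨U, hU⟩ x := rfl

theorem fromF_apply (U : S.Opens) (hU : IsAffineOpen U) (x : F.obj (op (⟨U, hU⟩ : S.AffineZariskiSite))) :
    fromF H dF hmap hstr U hU x = (affEquiv H ⟨U, hU⟩).symm x := rfl

theorem toF_fromF (U : S.Opens) (hU : IsAffineOpen U) (x : F.obj (op (⟨U, hU⟩ : S.AffineZariskiSite))) :
    toF H dF hmap hstr U hU (fromF H dF hmap hstr U hU x) = x := RingEquiv.apply_symm_apply _ _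

theorem irrelevant_fromF (U : S.Opens) (hU : IsAffineOpen U) :
    ((grAlg H dF hmap hstr).deg U hU)₊ ≤ ((dF ⟨U, hU⟩)₊).map (fromF H dF hmap hstr U hU) := by
  rw [HomogeneousIdeal.irrelevant_le]
  intro n hn x hx
  have h := Ideal.mem_map_of_mem (fromF H dF hmap hstr U hU)
    (HomogeneousIdeal.mem_irrelevant_of_mem (dF ⟨U, hU⟩) hn (x := affEquiv H ⟨U, hU⟩ x) hx)
  rw [fromF_apply, RingEquiv.symm_apply_apply] at h
  exact h

theorem isIso_map_fromF (U : S.Opens) (hU : IsAffineOpen U) :
    IsIso (Proj.map (fromF H dF hmap hstr U hU) (irrelevant_fromF H dF hmap hstr U hU)) :=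
  RelProj11.isIso_map _ _ fun n _ => ⟨fun _ hx => (fromF H dF hmap hstr U hU).map_mem hx,
    fun _ _ _ _ hxy => (affEquiv H ⟨U, hU⟩).symm.injective hxy,
    fun y hy => ⟨affEquiv H ⟨U, hU⟩ y, hy, RingEquiv.symm_apply_apply _ _⟩⟩

theorem res_fromF {U : S.Opens} (hU : IsAffineOpen U) (r : Γ(S, U))
    (x : F.obj (op (⟨U, hU⟩ : S.AffineZariskiSite))) :
    (grAlg H dF hmap hstr).res hU (hU.basicOpen r) (S.basicOpen_le r) (fromF H dF hmap hstr U hU x) =
      fromF H dF hmap hstr (S.basicOpen r) (hU.basicOpen r)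
        ((F.map (homOfLE (Scheme.AffineZariskiSite.basicOpen_le (⟨U, hU⟩ : S.AffineZariskiSite) r)).op).hom x) := by
  apply (affEquiv H ⟨S.basicOpen r, hU.basicOpen r⟩).injective
  rw [fromF_apply, fromF_apply, RingEquiv.apply_symm_apply]
  refine (affEquiv_res H (homOfLE (Scheme.AffineZariskiSite.basicOpen_le (⟨U, hU⟩ : S.AffineZariskiSite) r)) _).trans ?_
  rw [RingEquiv.apply_symm_apply]

end Groth.Agent.QuotProj11
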