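import Groth.Agent.Lib.QuotProj11.Main
import Groth.Agent.Lib.ProjSpace.BaseChange
import Mathlib.RingTheory.MvPolynomial.Localization

/-!
Projective space is the homogeneous spectrum of the polynomial algebra; H-projective morphisms are projective.
-/

set_option autoImplicit false

universe u

open CategoryTheory CategoryTheory.Limits AlgebraicGeometry TopologicalSpace Opposite DirectSum
open scoped HomogeneousIdeal

set_option backward.isDefEq.respectTransparency false

noncomputable section

namespace Groth.Agent.QuotProj11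

open Scheme.AffineZariskiSite (toOpens toOpens_mono toOpensFunctor)

section addDeg

variable {R A : Type u} [CommRing R] [CommRing A] [Algebra R A] (ℬ : ℕ → Submodule R A) [GradedAlgebra ℬ]

/-- A grading by submodules as a grading by subgroups. -/
def addDeg (n : ℕ) : AddSubgroup A := (ℬ n).toAddSubgroup

instance addGradedMonoid : SetLike.GradedMonoid (addDeg ℬ) where
  one_mem := SetLike.one_mem_graded ℬ
  mul_mem _ _ _ _ ha hb := SetLike.mul_mem_graded (A := ℬ) ha hb

/-- The pieces. -/
def addPiece (n : ℕ) : ℬ n →+ addDeg ℬ n :=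
  AddMonoidHom.mk' (fun b => ⟨b, b.2⟩) fun _ _ => rfl

/-- The decomposition. -/
def addDecompose : A →+ ⨁ n, addDeg ℬ n :=
  (DirectSum.map (addPiece ℬ)).comp (DirectSum.decomposeAddEquiv ℬ).toAddMonoidHom

theorem addDecompose_of_mem {n : ℕ} {a : A} (ha : a ∈ addDeg ℬ n) :
    addDecompose ℬ a = DirectSum.of (fun n => addDeg ℬ n) n ⟨a, ha⟩ := by
  show DirectSum.map (addPiece ℬ) (DirectSum.decompose ℬ a) = _
  rw [DirectSum.decompose_of_mem ℬ (show a ∈ ℬ n from ha), DirectSum.map_of]
  rfl

instance addGradedRing : GradedRing (addDeg ℬ) where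
  decompose' := addDecompose ℬ
  left_inv a := by
    induction a using DirectSum.Decomposition.inductionOn ℬ with
    | zero => simp only [map_zero]
    | add x y hx hy => simp only [map_add, hx, hy]
    | @homogeneous n x => rw [addDecompose_of_mem ℬ (n := n) x.2, DirectSum.coeAddMonoidHom_of]
  right_inv d := by
    induction d using DirectSum.induction_on with
    | zero => simp only [map_zero]
    | of i x =>
      rw [DirectSum.coeAddMonoidHom_of]
      exact addDecompose_of_mem ℬ x.2
    | add a b ha hb => simp only [map_add, ha, hb]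

/-- The identity, as a graded homomorphism. -/
def toAddDeg : ℬ →+*ᵍ addDeg ℬ := { RingHom.id A with map_mem := fun hx => hx }

theorem irrelevant_toAddDeg : (addDeg ℬ)₊ ≤ (ℬ₊).map (toAddDeg ℬ) := by
  rw [HomogeneousIdeal.irrelevant_le]
  intro n hn x hx
  exact Ideal.mem_map_of_mem (toAddDeg ℬ) (HomogeneousIdeal.mem_irrelevant_of_mem ℬ hn hx)

theorem isIso_map_toAddDeg : IsIso (Proj.map (toAddDeg ℬ) (irrelevant_toAddDeg ℬ)) :=
  RelProj11.isIso_map _ _ fun _ _ => ⟨fun _ hx => hx, fun _ _ _ _ h => h, fun y hy => ⟨y, hy, rfl⟩⟩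

end addDeg

theorem isIso_map_comp {A B C : Type u} [CommRing A] [CommRing B] [CommRing C] {σ τ ρ : Type u}
    [SetLike σ A] [AddSubgroupClass σ A] [SetLike τ B] [AddSubgroupClass τ B] [SetLike ρ C] [AddSubgroupClass ρ C]
    {𝒜 : ℕ → σ} {ℬ : ℕ → τ} {𝒞 : ℕ → ρ} [GradedRing 𝒜] [GradedRing ℬ] [GradedRing 𝒞]
    (θ : ℬ →+*ᵍ 𝒞) (φ : 𝒜 →+*ᵍ ℬ) (hφ : ℬ₊ ≤ (𝒜₊).map φ) (hθ : 𝒞₊ ≤ (ℬ₊).map θ)
    (h1 : IsIso (Proj.map φ hφ)) (h2 : IsIso (Proj.map θ hθ)) :
    IsIso (Proj.map (θ.comp φ) (HomogeneousIdeal.irrelevant_le_map_comp hφ hθ)) := by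
  rw [Proj.map_comp _ _ hφ hθ]
  infer_instance


variable (n : ℕ) (S : Scheme.{u})

/-- Polynomial rings over the affine opens. -/
def polyAff : S.AffineZariskiSiteᵒᵖ ⥤ CommRingCat.{u} where
  obj U := CommRingCat.of (MvPolynomial (Fin (n + 1)) Γ(S, U.unop.1))
  map {U V} f := CommRingCat.ofHom (MvPolynomial.map (S.presheaf.map (homOfLE (toOpens_mono f.unop.le)).op).hom)
  map_id U := CommRingCat.hom_ext (MvPolynomial.ringHom_ext (fun r => by
    show MvPolynomial.map _ (MvPolynomial.C r) = MvPolynomial.C r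
    rw [MvPolynomial.map_C]
    congr 1
    rw [show (homOfLE (le_refl U.unop.1)).op = 𝟙 (op U.unop.1) from rfl, CategoryTheory.Functor.map_id]
    rfl) fun i => MvPolynomial.map_X _ i)
  map_comp {U V W} f g := CommRingCat.hom_ext (MvPolynomial.ringHom_ext (fun r => by
    show MvPolynomial.map _ (MvPolynomial.C r) = MvPolynomial.map _ (MvPolynomial.map _ (MvPolynomial.C r))
    rw [MvPolynomial.map_C, MvPolynomial.map_C, MvPolynomial.map_C]
    congr 1
    rw [← ConcreteCategory.comp_apply, ← Functor.map_comp]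
    rfl) fun i => by
    show MvPolynomial.map _ (MvPolynomial.X i) = MvPolynomial.map _ (MvPolynomial.map _ (MvPolynomial.X i))
    rw [MvPolynomial.map_X, MvPolynomial.map_X, MvPolynomial.map_X])

/-- The structure maps. -/
def polyStr : (toOpensFunctor S).op ⋙ S.presheaf ⟶ polyAff n S where
  app U := CommRingCat.ofHom MvPolynomial.C
  naturality U V f := CommRingCat.hom_ext (RingHom.ext fun r => (MvPolynomial.map_C _ r).symm)

theorem coequifibered_polyStr : (polyStr n S).Coequifibered := by
  rw [Scheme.AffineZariskiSite.coequifibered_iff_forall_isLocalizationAway]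
  rintro ⟨U, hU⟩ r
  letI : Algebra Γ(S, U) Γ(S, S.basicOpen r) := (S.presheaf.map (homOfLE (S.basicOpen_le r)).op).hom.toAlgebra
  haveI : IsLocalization.Away r Γ(S, S.basicOpen r) := hU.isLocalization_basicOpen r
  letI := ((polyAff n S).map (homOfLE (Scheme.AffineZariskiSite.basicOpen_le (⟨U, hU⟩ : S.AffineZariskiSite) r)).op).hom.toAlgebra
  have h := @MvPolynomial.isLocalization (Fin (n + 1)) _ _ (Submonoid.powers r) Γ(S, S.basicOpen r) _ _ _
  rw [Submonoid.map_powers] at h
  exact h

/-- The grading. -/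
def polyDeg (U : S.AffineZariskiSite) : ℕ → AddSubgroup ((polyAff n S).obj (op U)) :=
  addDeg (A := MvPolynomial (Fin (n + 1)) Γ(S, U.1)) (CohB1.polyGrading n Γ(S, U.1))

instance (U : S.AffineZariskiSite) : GradedRing (polyDeg n S U) :=
  addGradedRing (A := MvPolynomial (Fin (n + 1)) Γ(S, U.1)) (CohB1.polyGrading n Γ(S, U.1))

theorem polyDeg_map {U V : S.AffineZariskiSite} (f : V ⟶ U) (d : ℕ) (x : (polyAff n S).obj (op U))
    (hx : x ∈ polyDeg n S U d) : ((polyAff n S).map f.op).hom x ∈ polyDeg n S V d :=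
  MvPolynomial.IsHomogeneous.map hx _

theorem polyDeg_str (U : S.AffineZariskiSite) (r : Γ(S, U.1)) :
    ((polyStr n S).app (op U)).hom r ∈ polyDeg n S U 0 :=
  MvPolynomial.isHomogeneous_C _ r

/-- The polynomial algebra. -/
def polyAlg : RelProj.QCGrAlg S :=
  grAlg (coequifibered_polyStr n S) (polyDeg n S) (polyDeg_map n S) (polyDeg_str n S)

/-- From the polynomial ring over an affine open. -/
def polyHom (U : S.Opens) (hU : IsAffineOpen U) : CohB1.polyGrading n Γ(S, U) →+*ᵍ (polyAlg n S).deg U hU :=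
  (fromF (coequifibered_polyStr n S) (polyDeg n S) (polyDeg_map n S) (polyDeg_str n S) U hU).comp
    (toAddDeg (A := MvPolynomial (Fin (n + 1)) Γ(S, U)) (CohB1.polyGrading n Γ(S, U)) :
      CohB1.polyGrading n Γ(S, U) →+*ᵍ polyDeg n S ⟨U, hU⟩)

theorem irrelevant_polyHom (U : S.Opens) (hU : IsAffineOpen U) :
    ((polyAlg n S).deg U hU)₊ ≤ ((CohB1.polyGrading n Γ(S, U))₊).map (polyHom n S U hU) :=
  HomogeneousIdeal.irrelevant_le_map_comp (irrelevant_toAddDeg (A := MvPolynomial (Fin (n + 1)) Γ(S, U)) (CohB1.polyGrading n Γ(S, U))) (irrelevant_fromF _ _ _ _ U hU)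

theorem isIso_map_polyHom (U : S.Opens) (hU : IsAffineOpen U) :
    IsIso (Proj.map (polyHom n S U hU) (irrelevant_polyHom n S U hU)) := by
  exact isIso_map_comp _ _ (irrelevant_toAddDeg (CohB1.polyGrading n Γ(S, U)))
    (irrelevant_fromF (coequifibered_polyStr n S) (polyDeg n S) (polyDeg_map n S) (polyDeg_str n S) U hU)
    (isIso_map_toAddDeg (A := MvPolynomial (Fin (n + 1)) Γ(S, U)) (CohB1.polyGrading n Γ(S, U))) (isIso_map_fromF _ _ _ _ U hU)

theorem polyHom_str (U : S.Opens) (hU : IsAffineOpen U) (r : Γ(S, U)) :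
    polyHom n S U hU (MvPolynomial.C r) = ((polyAlg n S).str.app (op U)).hom r := by
  apply (affEquiv (coequifibered_polyStr n S) ⟨U, hU⟩).injective
  exact (RingEquiv.apply_symm_apply _ _).trans (affEquiv_str (coequifibered_polyStr n S) ⟨U, hU⟩ r).symm

theorem polyHom_res {U : S.Opens} (hU : IsAffineOpen U) (r : Γ(S, U)) (a : MvPolynomial (Fin (n + 1)) Γ(S, U)) :
    (polyAlg n S).res hU (hU.basicOpen r) (S.basicOpen_le r) (polyHom n S U hU a) =
      polyHom n S (S.basicOpen r) (hU.basicOpen r)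
        (ProjSpace.mapHom n (S.presheaf.map (homOfLE (S.basicOpen_le r)).op).hom a) :=
  (res_fromF (coequifibered_polyStr n S) (polyDeg n S) (polyDeg_map n S) (polyDeg_str n S) hU r a).trans rfl

theorem surjective_polyHom (U : S.Opens) (hU : IsAffineOpen U) : Function.Surjective (polyHom n S U hU) := fun y =>
  ⟨affEquiv (coequifibered_polyStr n S) ⟨U, hU⟩ y, (affEquiv (coequifibered_polyStr n S) ⟨U, hU⟩).symm_apply_apply y⟩

theorem isGenDegOne_polyAlg : (polyAlg n S).IsGenDegOne := by
  intro U hU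
  refine top_le_iff.1 fun y hy => ?_
  clear hy
  obtain ⟨a, rfl⟩ := surjective_polyHom n S U hU y
  induction a using MvPolynomial.induction_on with
  | C r => exact Subring.subset_closure (Or.inl ((polyHom n S U hU).map_mem (MvPolynomial.isHomogeneous_C _ r)))
  | add p q hp hq => rw [map_add]; exact add_mem hp hq
  | mul_X p i hp =>
    rw [map_mul]
    exact mul_mem hp (Subring.subset_closure (Or.inr ((polyHom n S U hU).map_mem (MvPolynomial.isHomogeneous_X _ i))))

theorem isFTDeg_one_polyAlg : (polyAlg n S).IsFTDeg 1 := by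
  intro U hU
  classical
  refine ⟨Finset.univ.image fun i => polyHom n S U hU (MvPolynomial.X i), fun y hy => ?_, fun y hy => ?_⟩
  · obtain ⟨i, -, rfl⟩ := Finset.mem_image.1 hy
    exact (polyHom n S U hU).map_mem (MvPolynomial.isHomogeneous_X _ i)
  · obtain ⟨a, ha, rfl⟩ := RelProj11.surjOn_of_surjective (polyHom n S U hU) (surjective_polyHom n S U hU) 1 hy
    have hspan : a ∈ Submodule.span Γ(S, U) (Set.range (MvPolynomial.X : Fin (n + 1) → MvPolynomial (Fin (n + 1)) Γ(S, U))) := by
      have := ha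
      rw [← MvPolynomial.homogeneousSubmodule_one_eq_span_X]
      exact this
    obtain ⟨c, rfl⟩ := (Submodule.mem_span_range_iff_exists_fun Γ(S, U)).1 hspan
    refine ⟨fun y => ∑ i ∈ Finset.univ.filter (fun i => polyHom n S U hU (MvPolynomial.X i) = y), c i, ?_⟩
    rw [map_sum]
    refine (Finset.sum_fiberwise_of_maps_to (fun i _ => Finset.mem_image_of_mem _ (Finset.mem_univ i)) _).symm.trans
      (Finset.sum_congr rfl fun y _ => ?_)
    rw [map_sum, Finset.sum_mul]
    refine Finset.sum_congr rfl fun i hi => ?_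
    rw [MvPolynomial.smul_eq_C_mul, map_mul, (Finset.mem_filter.1 hi).2, polyHom_str]

/-- The chart of projective space over an affine open. -/
def spaceEmb (U : S.Opens) (hU : IsAffineOpen U) : CohB1.ProjSpace n Γ(S, U) ⟶ CohB1.ProjSpaceOver n S :=
  pullback.lift (ProjSpace.map n (ProjSpace.fromZ Γ(S, U))) (CohB1.ProjSpace.toSpec n Γ(S, U) ≫ hU.fromSpec)
    (specULiftZIsTerminal.hom_ext _ _)

theorem isPullback_spaceEmb (U : S.Opens) (hU : IsAffineOpen U) :
    IsPullback (spaceEmb n S U hU) (CohB1.ProjSpace.toSpec n Γ(S, U)) (CohB1.ProjSpaceOver.toBase n S) hU.fromSpec := by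
  refine IsPullback.of_right ?_ (pullback.lift_snd _ _ _) (IsPullback.of_hasPullback _ _)
  rw [show spaceEmb n S U hU ≫ pullback.fst _ _ = ProjSpace.map n (ProjSpace.fromZ Γ(S, U)) from pullback.lift_fst _ _ _,
    specULiftZIsTerminal.hom_ext (hU.fromSpec ≫ specULiftZIsTerminal.from S) (Spec.map (CommRingCat.ofHom (ProjSpace.fromZ Γ(S, U))))]
  exact ProjSpace.isPullback_map n _

theorem spaceEmb_res {U : S.Opens} (hU : IsAffineOpen U) (r : Γ(S, U)) :
    ProjSpace.map n (S.presheaf.map (homOfLE (S.basicOpen_le r)).op).hom ≫ spaceEmb n S U hU =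
      spaceEmb n S (S.basicOpen r) (hU.basicOpen r) := by
  apply pullback.hom_ext
  · rw [Category.assoc, spaceEmb, spaceEmb, pullback.lift_fst, pullback.lift_fst]
    unfold ProjSpace.map
    rw [← Proj.map_comp]
    refine RelProj11.map_congr _ (GradedRingHom.ext fun a => ?_) _
    show MvPolynomial.map _ (MvPolynomial.map _ a) = MvPolynomial.map _ a
    rw [MvPolynomial.map_map]
    exact RingHom.congr_fun (congrArg MvPolynomial.map (RingHom.ext fun z => by simp [ProjSpace.fromZ])) _
  · rw [Category.assoc, spaceEmb, spaceEmb, pullback.lift_snd, pullback.lift_snd,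
      reassoc_of% (ProjSpace.isPullback_map n (S.presheaf.map (homOfLE (S.basicOpen_le r)).op).hom).w]
    congr 1
    exact hU.map_fromSpec (hU.basicOpen r) _

/-- Projective space is the homogeneous spectrum of the polynomial algebra. -/
theorem exists_isRelProj_polyAlg :
    ∃ (chart : ∀ (U : S.Opens) (hU : IsAffineOpen U),
      ((((CohB1.ProjSpaceOver.toBase n S) ⁻¹ᵁ U : (CohB1.ProjSpaceOver n S).Opens) : Scheme.{u}) ≅
        Proj ((polyAlg n S).deg U hU))),
      RelProj.IsRelProj (polyAlg n S) (CohB1.ProjSpaceOver.toBase n S) chart := by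
  let π := CohB1.ProjSpaceOver.toBase n S
  have hiso : ∀ U hU, IsIso (Proj.map (polyHom n S U hU) (irrelevant_polyHom n S U hU)) := isIso_map_polyHom n S
  let c : ∀ (U : S.Opens) (hU : IsAffineOpen U), Proj ((polyAlg n S).deg U hU) ⟶ CohB1.ProjSpaceOver n S := fun U hU =>
    Proj.map (polyHom n S U hU) (irrelevant_polyHom n S U hU) ≫ spaceEmb n S U hU
  haveI : ∀ U hU, IsOpenImmersion (c U hU) := fun U hU => by
    haveI := hiso U hU
    haveI : IsOpenImmersion (spaceEmb n S U hU) :=
      MorphismProperty.of_isPullback (P := @IsOpenImmersion) (isPullback_spaceEmb n S U hU).flip inferInstance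
    show IsOpenImmersion (Proj.map (polyHom n S U hU) (irrelevant_polyHom n S U hU) ≫ spaceEmb n S U hU)
    infer_instance
  have hrange : ∀ U hU, Set.range (π ⁻¹ᵁ U).ι = Set.range (c U hU) := fun U hU => by
    haveI := hiso U hU
    rw [Scheme.Opens.range_ι]
    show _ = Set.range (Proj.map (polyHom n S U hU) (irrelevant_polyHom n S U hU) ≫ spaceEmb n S U hU)
    rw [Scheme.Hom.comp_base, TopCat.coe_comp, Set.range_comp,
      Set.range_eq_univ.2 (Proj.map (polyHom n S U hU) (irrelevant_polyHom n S U hU)).surjective, Set.image_univ,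
      ]
    refine subset_antisymm (fun x hx => ?_) ?_
    · obtain ⟨w, hw⟩ : π x ∈ Set.range hU.fromSpec := by rw [hU.range_fromSpec]; exact hx
      obtain ⟨q, hq, -⟩ := Scheme.exists_preimage_of_isPullback (isPullback_spaceEmb n S U hU) x w hw.symm
      exact ⟨q, hq⟩
    · rintro _ ⟨q, rfl⟩
      show π (spaceEmb n S U hU q) ∈ (U : Set S)
      rw [← Scheme.Hom.comp_apply, (isPullback_spaceEmb n S U hU).w, Scheme.Hom.comp_apply, ← hU.range_fromSpec]
      exact ⟨_, rfl⟩
  let chart : ∀ (U : S.Opens) (hU : IsAffineOpen U), (π ⁻¹ᵁ U).toScheme ≅ Proj ((polyAlg n S).deg U hU) := fun U hU =>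
    IsOpenImmersion.isoOfRangeEq (π ⁻¹ᵁ U).ι (c U hU) (hrange U hU)
  have hchart : ∀ U hU, (chart U hU).hom ≫ c U hU = (π ⁻¹ᵁ U).ι := fun U hU => IsOpenImmersion.lift_fac _ _ _
  refine ⟨chart, fun U hU => ?_, fun U hU r => ?_⟩
  · rw [← hchart U hU]
    simp only [c, π, Category.assoc]
    rw [(isPullback_spaceEmb n S U hU).w]
    unfold CohB1.ProjSpace.toSpec
    simp only [Category.assoc]
    rw [reassoc_of% (RelProj11.map_toSpecZero (ψ := polyHom n S U hU) (irrelevant_polyHom n S U hU)), ← Spec.map_comp_assoc]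
    congr 3
    refine congrArg Spec.map (CommRingCat.hom_ext (RingHom.ext fun x => ?_))
    exact Subtype.ext (polyHom_str n S U hU x).symm
  · rw [← cancel_mono (c U hU), Category.assoc, Category.assoc, hchart U hU, Scheme.homOfLE_ι,
      ← hchart (S.basicOpen r) (hU.basicOpen r)]
    congr 1
    simp only [c]
    rw [← spaceEmb_res n S hU r, ← Category.assoc, ← Category.assoc]
    congr 1
    unfold ProjSpace.map
    rw [← Proj.map_comp, ← Proj.map_comp]
    exact RelProj11.map_congr _ (GradedRingHom.ext fun a => (polyHom_res n S hU r a).symm) _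

theorem isProjective_toBase : RelProj.IsProjective (CohB1.ProjSpaceOver.toBase n S) := by
  obtain ⟨chart, h⟩ := exists_isRelProj_polyAlg n S
  exact ⟨polyAlg n S, _, _, chart, Iso.refl _, isGenDegOne_polyAlg n S, isFTDeg_one_polyAlg n S, h, Category.id_comp _⟩

/-- An H-projective morphism is projective. -/
theorem isProjective_of_isHProjective {X T : Scheme.{u}} {f : X ⟶ T} (hf : RelProj.IsHProjective f) :
    RelProj.IsProjective f := by
  obtain ⟨m, i, hi, rfl⟩ := hf
  exact isProjective_comp_of_isClosedImmersion i (isProjective_toBase m T)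

end Groth.Agent.QuotProj11
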