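import Mathlib.RingTheory.GradedAlgebra.Homogeneous.Maps
import Mathlib.RingTheory.Ideal.Quotient.Operations

/-!
The grading on the quotient of an `ℕ`-graded ring by a homogeneous ideal.
-/

set_option autoImplicit false

universe u

open DirectSum
open scoped HomogeneousIdeal

noncomputable section

namespace Groth.Agent.QuotProj11

variable {A σ : Type*} [CommRing A] [SetLike σ A] [AddSubgroupClass σ A] {𝒜 : ℕ → σ} [GradedRing 𝒜]
  (I : HomogeneousIdeal 𝒜)

/-- The degree pieces of the quotient. -/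
def quotDeg (n : ℕ) : AddSubgroup (A ⧸ I.toIdeal) :=
  (AddSubgroup.ofClass (𝒜 n)).map (Ideal.Quotient.mk I.toIdeal).toAddMonoidHom

theorem mem_quotDeg {n : ℕ} {x : A ⧸ I.toIdeal} :
    x ∈ quotDeg I n ↔ ∃ a ∈ 𝒜 n, Ideal.Quotient.mk I.toIdeal a = x := Iff.rfl

instance quotGradedMonoid : SetLike.GradedMonoid (quotDeg I) where
  one_mem := ⟨1, SetLike.GradedOne.one_mem, map_one (Ideal.Quotient.mk I.toIdeal)⟩
  mul_mem := by
    rintro i j _ _ ⟨a, ha, rfl⟩ ⟨b, hb, rfl⟩
    exact ⟨a * b, SetLike.mul_mem_graded ha hb, map_mul (Ideal.Quotient.mk I.toIdeal) a b⟩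

/-- The map on one piece. -/
def piece (n : ℕ) : 𝒜 n →+ ⨁ i, quotDeg I i :=
  (DirectSum.of (fun i => quotDeg I i) n).comp
    (AddMonoidHom.mk' (fun a => ⟨Ideal.Quotient.mk I.toIdeal a, a, a.2, rfl⟩) fun a b =>
      Subtype.ext (map_add (Ideal.Quotient.mk I.toIdeal) (a : A) b))

/-- The decomposition, before passing to the quotient. -/
def decomposeMap : A →+ ⨁ i, quotDeg I i :=
  (DirectSum.toAddMonoid (piece I)).comp (DirectSum.decomposeAddEquiv 𝒜).toAddMonoidHom

theorem decomposeMap_coe {n : ℕ} (a : 𝒜 n) :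
    decomposeMap I (a : A) = DirectSum.of (fun i => quotDeg I i) n ⟨Ideal.Quotient.mk I.toIdeal a, a, a.2, rfl⟩ := by
  rw [decomposeMap, AddMonoidHom.comp_apply,
    show (DirectSum.decomposeAddEquiv 𝒜).toAddMonoidHom (a : A) = DirectSum.decompose 𝒜 (a : A) from rfl,
    DirectSum.decompose_coe, DirectSum.toAddMonoid_of]
  rfl

theorem decomposeMap_eq_zero (a : A) (ha : a ∈ I.toIdeal) : decomposeMap I a = 0 := by
  classical
  rw [← DirectSum.sum_support_decompose 𝒜 a, map_sum]
  refine Finset.sum_eq_zero fun i _ => ?_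
  rw [decomposeMap_coe]
  have : Ideal.Quotient.mk I.toIdeal (DirectSum.decompose 𝒜 a i : A) = 0 :=
    Ideal.Quotient.eq_zero_iff_mem.mpr (I.isHomogeneous i ha)
  simp only [this]
  exact map_zero _

/-- The decomposition of the quotient. -/
def decomposeQuot : A ⧸ I.toIdeal →+ ⨁ i, quotDeg I i :=
  QuotientAddGroup.lift _ (decomposeMap I) fun a ha => decomposeMap_eq_zero I a ha

theorem decomposeQuot_mk (a : A) : decomposeQuot I (Ideal.Quotient.mk I.toIdeal a) = decomposeMap I a := rfl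

instance quotGradedRing : GradedRing (quotDeg I) where
  decompose' := decomposeQuot I
  left_inv x := by
    obtain ⟨a, rfl⟩ := Ideal.Quotient.mk_surjective x
    classical
    rw [decomposeQuot_mk, ← DirectSum.sum_support_decompose 𝒜 a, map_sum, map_sum, map_sum]
    refine Finset.sum_congr rfl fun i _ => ?_
    rw [decomposeMap_coe, DirectSum.coeAddMonoidHom_of]
  right_inv d := by
    induction d using DirectSum.induction_on with
    | zero => simp only [map_zero]
    | of i x =>
      obtain ⟨_, a, ha, rfl⟩ := x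
      rw [DirectSum.coeAddMonoidHom_of]
      exact decomposeMap_coe I ⟨a, ha⟩
    | add a b ha hb => rw [map_add, map_add, ha, hb]

/-- The quotient map, as a graded homomorphism. -/
def quotHom : 𝒜 →+*ᵍ quotDeg I :=
  { Ideal.Quotient.mk I.toIdeal with map_mem := fun {_ x} hx => ⟨x, hx, rfl⟩ }

theorem quotHom_apply (a : A) : quotHom I a = Ideal.Quotient.mk I.toIdeal a := rfl

theorem quotHom_eq_zero {a : A} : quotHom I a = 0 ↔ a ∈ I.toIdeal := Ideal.Quotient.eq_zero_iff_mem

theorem surjOn_quotHom (n : ℕ) : Set.SurjOn (quotHom I) (𝒜 n : Set A) (quotDeg I n) := fun _ hx => hx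

theorem irrelevant_le_quotHom : (quotDeg I)₊ ≤ (𝒜₊).map (quotHom I) := by
  rw [HomogeneousIdeal.irrelevant_le]
  rintro n hn _ ⟨a, ha, rfl⟩
  exact Ideal.mem_map_of_mem (quotHom I) (HomogeneousIdeal.mem_irrelevant_of_mem 𝒜 hn ha)

end Groth.Agent.QuotProj11
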