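import Groth.Agent.Lib.QuotProj11.Vanish
import Groth.Agent.Lib.QuotProj11.OfAffine
import Groth.Agent.Lib.RelProj11.Exists
import Groth.Agent.Lib.RelProj11.FinType

/-!
A closed subscheme of a projective scheme is projective: it is the homogeneous spectrum of a quotient algebra.
-/

set_option autoImplicit false

universe u

open CategoryTheory CategoryTheory.Limits AlgebraicGeometry TopologicalSpace Opposite
open scoped HomogeneousIdeal

set_option backward.isDefEq.respectTransparency false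

noncomputable section

namespace Groth.Agent.QuotProj11

open Scheme.AffineZariskiSite (toOpens toOpens_mono toOpensFunctor)

variable {X S P : Scheme.{u}} {𝒯 : RelProj.QCGrAlg S} {p : P ⟶ S}
  {chart : ∀ (U : S.Opens) (hU : IsAffineOpen U), (((p ⁻¹ᵁ U : P.Opens) : Scheme.{u}) ≅ Proj (𝒯.deg U hU))}

variable (chart) in
/-- The subscheme over an affine open, in the chart. -/
def cU (i : X ⟶ P) (U : S.Opens) (hU : IsAffineOpen U) :
    ((i ⁻¹ᵁ (p ⁻¹ᵁ U) : X.Opens) : Scheme.{u}) ⟶ Proj (𝒯.deg U hU) :=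
  (i ∣_ (p ⁻¹ᵁ U)) ≫ (chart U hU).hom

instance (i : X ⟶ P) [IsClosedImmersion i] (U : S.Opens) (hU : IsAffineOpen U) :
    IsClosedImmersion (cU chart i U hU) := by
  haveI : IsClosedImmersion (i ∣_ (p ⁻¹ᵁ U)) := IsZariskiLocalAtTarget.restrict (P := @IsClosedImmersion) inferInstance _
  unfold cU
  infer_instance

variable (hP : RelProj.IsRelProj 𝒯 p chart) (i : X ⟶ P) [IsClosedImmersion i]

include hP in
theorem cU_res {U : S.Opens} (hU : IsAffineOpen U) {D : S.Opens} (hD : IsAffineOpen D) (hle : D ≤ U)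
    (r : Γ(S, U)) (e : D = S.basicOpen r) :
    cU chart i D hD ≫ Proj.map (𝒯.res hU hD hle) (RelProj11.irrelevant_le_of_le 𝒯 hU hD hle r e) =
      X.homOfLE (i.preimage_mono (p.preimage_mono hle)) ≫ cU chart i U hU := by
  subst e
  have h1 : (i ∣_ (p ⁻¹ᵁ S.basicOpen r)) ≫ P.homOfLE (p.preimage_mono hle) =
      X.homOfLE (i.preimage_mono (p.preimage_mono hle)) ≫ (i ∣_ (p ⁻¹ᵁ U)) := by
    rw [← cancel_mono (p ⁻¹ᵁ U).ι, Category.assoc, Scheme.homOfLE_ι, morphismRestrict_ι, Category.assoc,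
      morphismRestrict_ι, Scheme.homOfLE_ι_assoc]
  rw [cU, cU, Category.assoc, ← hP.chart_res U hU r, reassoc_of% h1]

include hP in
theorem opensRange_homOfLE {U : S.Opens} (hU : IsAffineOpen U) {D : S.Opens} (hle : D ≤ U)
    (r : Γ(S, U)) (e : D = S.basicOpen r) :
    (X.homOfLE (i.preimage_mono (p.preimage_mono hle))).opensRange =
      cU chart i U hU ⁻¹ᵁ Proj.basicOpen (𝒯.deg U hU) ((𝒯.str.app (op U)).hom r) := by
  subst e
  have h := congrArg (fun q => q ⁻¹ᵁ (S.basicOpen r))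
    (show cU chart i U hU ≫ Proj.toSpecZero (𝒯.deg U hU) ≫ Spec.map (𝒯.strZero U hU) ≫ hU.fromSpec =
      (i ⁻¹ᵁ (p ⁻¹ᵁ U)).ι ≫ i ≫ p by rw [cU, Category.assoc, hP.chart_over U hU, morphismRestrict_ι_assoc])
  simp only [Scheme.Hom.comp_preimage] at h
  rw [hU.fromSpec_preimage_basicOpen] at h
  rw [Scheme.opensRange_homOfLE]
  refine h.symm.trans (congrArg (fun W => cU chart i U hU ⁻¹ᵁ W) ?_)
  exact toSpecZero_preimage_basicOpen ((𝒯.strZero U hU).hom r)

/-- The ideal over an affine open. -/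
abbrev idl (U : S.Opens) (hU : IsAffineOpen U) : HomogeneousIdeal (𝒯.deg U hU) := vanIdeal (cU chart i U hU)

variable (hgen : 𝒯.IsGenDegOne) (hft : 𝒯.IsFTDeg 1)

include hgen hft in
theorem exists_gens (U : S.Opens) (hU : IsAffineOpen U) :
    ∃ (ι : Type u) (_ : Finite ι) (g : ι → 𝒯.presheaf.obj (op U)),
      (∀ k, g k ∈ 𝒯.deg U hU 1) ∧ ⨆ k, Proj.basicOpen (𝒯.deg U hU) (g k) = ⊤ := by
  obtain ⟨T, hT1, hT2⟩ := hft U hU
  refine ⟨{t // t ∈ T}, inferInstance, fun t => t.1, fun t => hT1 t.2, ?_⟩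
  refine Proj.iSup_basicOpen_eq_top' _ _ (fun t => ⟨1, hT1 t.2⟩) (RelProj11.adjoin_eq_top_of_degOne (𝒯.deg U hU)
    (𝒯.strZero U hU).hom _ (fun x hx => ?_) (hgen U hU))
  obtain ⟨c, hc⟩ := hT2 x hx
  refine ⟨fun t => c t.1, hc.trans ?_⟩
  rw [← Finset.sum_coe_sort]
  rfl

include hP hgen hft in
theorem res_mem_idl {U D : S.Opens} (hU : IsAffineOpen U) (hD : IsAffineOpen D) (hle : D ≤ U)
    (r : Γ(S, U)) (e : D = S.basicOpen r) {a : 𝒯.presheaf.obj (op U)}
    (ha : a ∈ (idl (chart := chart) i U hU).toIdeal) :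
    𝒯.res hU hD hle a ∈ (idl (chart := chart) i D hD).toIdeal := by
  obtain ⟨ι, _, g, hg, hcov⟩ := exists_gens hgen hft U hU
  exact map_mem_vanIdeal _ hg hcov _ _ _ _ (cU_res hP i hU hD hle r e) ha

include hP hgen hft in
theorem exists_pow_mem_idl {U D : S.Opens} (hU : IsAffineOpen U) (hD : IsAffineOpen D) (hle : D ≤ U)
    (r : Γ(S, U)) (e : D = S.basicOpen r) (a : 𝒯.presheaf.obj (op U))
    (ha : 𝒯.res hU hD hle a ∈ (idl (chart := chart) i D hD).toIdeal) :
    ∃ N : ℕ, (𝒯.str.app (op U)).hom r ^ N * a ∈ (idl (chart := chart) i U hU).toIdeal := by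
  classical
  obtain ⟨ι, _, g, hg, hcov⟩ := exists_gens hgen hft U hU
  have key : ∀ n, ∃ N : ℕ, (𝒯.str.app (op U)).hom r ^ N * (DirectSum.decompose (𝒯.deg U hU) a n : _) ∈
      (idl (chart := chart) i U hU).toIdeal := fun n => by
    refine exists_pow_mul_mem_of_map _ hg hcov _ _ _ _ (cU_res hP i hU hD hle r e) (𝒯.str_mem U hU r)
      (opensRange_homOfLE hP i hU hle r e) (SetLike.coe_mem _) ?_
    rw [GradedRingHom.map_directSumDecompose]
    exact (idl (chart := chart) i D hD).isHomogeneous n ha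
  choose N hN using key
  refine ⟨(DirectSum.decompose (𝒯.deg U hU) a).support.sup N, ?_⟩
  rw [← DirectSum.sum_support_decompose (𝒯.deg U hU) a, Finset.mul_sum]
  refine Submodule.sum_mem _ fun n hn => ?_
  rw [DirectSum.sum_support_decompose (𝒯.deg U hU) a,
    ← Nat.sub_add_cancel (Finset.le_sup (f := N) hn), pow_add, mul_assoc]
  exact Ideal.mul_mem_left _ _ (hN n)

/-- The quotient rings over the affine opens. -/
def quotAff : S.AffineZariskiSiteᵒᵖ ⥤ CommRingCat.{u} where
  obj U := CommRingCat.of (𝒯.presheaf.obj (op U.unop.1) ⧸ (idl (chart := chart) i U.unop.1 U.unop.2).toIdeal)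
  map {U V} f := CommRingCat.ofHom (Ideal.quotientMap _
    (𝒯.res U.unop.2 V.unop.2 (toOpens_mono f.unop.le)).toRingHom (fun a ha => by
      obtain ⟨r, hr⟩ := f.unop.le
      exact res_mem_idl hP i hgen hft U.unop.2 V.unop.2 _ r hr.symm ha))
  map_id U := CommRingCat.hom_ext (Ideal.Quotient.ringHom_ext (RingHom.ext fun a => by
    show Ideal.Quotient.mk _ ((𝒯.presheaf.map (homOfLE (le_refl U.unop.1)).op).hom a) = Ideal.Quotient.mk _ a
    rw [show (homOfLE (le_refl U.unop.1)).op = 𝟙 (op U.unop.1) from rfl, CategoryTheory.Functor.map_id]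
    rfl))
  map_comp {U V W} f g := CommRingCat.hom_ext (Ideal.Quotient.ringHom_ext (RingHom.ext fun a => by
    show Ideal.Quotient.mk _ ((𝒯.presheaf.map _).hom a) =
      Ideal.Quotient.mk _ ((𝒯.presheaf.map (homOfLE (toOpens_mono g.unop.le)).op).hom
        ((𝒯.presheaf.map (homOfLE (toOpens_mono f.unop.le)).op).hom a))
    rw [← ConcreteCategory.comp_apply, ← Functor.map_comp]
    rfl))

/-- The structure maps. -/
def quotStr : (toOpensFunctor S).op ⋙ S.presheaf ⟶ quotAff hP i hgen hft where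
  app U := 𝒯.str.app (op U.unop.1) ≫ CommRingCat.ofHom (Ideal.Quotient.mk _)
  naturality U V f := CommRingCat.hom_ext (RingHom.ext fun a => by
    show Ideal.Quotient.mk _ ((𝒯.str.app (op V.unop.1)).hom ((S.presheaf.map _).hom a)) =
      Ideal.Quotient.mk _ ((𝒯.presheaf.map (homOfLE (toOpens_mono f.unop.le)).op).hom ((𝒯.str.app (op U.unop.1)).hom a))
    congr 1
    exact ConcreteCategory.congr_hom (𝒯.str.naturality (homOfLE (toOpens_mono f.unop.le)).op) a)

theorem coequifibered_quotStr : (quotStr hP i hgen hft).Coequifibered := by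
  rw [Scheme.AffineZariskiSite.coequifibered_iff_forall_isLocalizationAway]
  rintro ⟨U, hU⟩ r
  have hloc : RelProj11.IsResLoc (𝒯.res hU (hU.basicOpen r) (S.basicOpen_le r)) ((𝒯.strZero U hU).hom r) :=
    RelProj11.isResLoc 𝒯 hU _ _ r rfl
  unfold RelProj11.IsResLoc at hloc
  letI := ((𝒯.res hU (hU.basicOpen r) (S.basicOpen_le r) : 𝒯.deg U hU →+*ᵍ _) : 𝒯.presheaf.obj (op U) →+* 𝒯.presheaf.obj (op (S.basicOpen r))).toAlgebra
  letI := ((quotAff hP i hgen hft).map (homOfLE (Scheme.AffineZariskiSite.basicOpen_le (⟨U, hU⟩ : S.AffineZariskiSite) r)).op).hom.toAlgebra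
  refine IsLocalization.Away.mk _ ?_ (fun y => ?_) (fun x x' h => ?_)
  · exact (hloc.algebraMap_isUnit).map (Ideal.Quotient.mk (idl (chart := chart) i (S.basicOpen r) (hU.basicOpen r)).toIdeal)
  · obtain ⟨y, rfl⟩ := Ideal.Quotient.mk_surjective y
    obtain ⟨k, a, ha⟩ := IsLocalization.Away.surj (S := 𝒯.presheaf.obj (op (S.basicOpen r)))
      ((𝒯.strZero U hU).hom r : 𝒯.presheaf.obj (op U)) y
    refine ⟨k, Ideal.Quotient.mk _ a, ?_⟩
    have h' := congrArg (Ideal.Quotient.mk (idl (chart := chart) i (S.basicOpen r) (hU.basicOpen r)).toIdeal) ha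
    rw [map_mul, map_pow] at h'
    exact h'
  · obtain ⟨a, rfl⟩ := Ideal.Quotient.mk_surjective x
    obtain ⟨a', rfl⟩ := Ideal.Quotient.mk_surjective x'
    have h0 : 𝒯.res hU (hU.basicOpen r) (S.basicOpen_le r) (a - a') ∈
        (idl (chart := chart) i (S.basicOpen r) (hU.basicOpen r)).toIdeal := by
      rw [map_sub]
      exact Ideal.Quotient.eq.1 h
    obtain ⟨N, hN⟩ := exists_pow_mem_idl hP i hgen hft hU (hU.basicOpen r) _ r rfl (a - a') h0
    refine ⟨N, ?_⟩
    show Ideal.Quotient.mk _ ((𝒯.str.app (op U)).hom r) ^ N * Ideal.Quotient.mk _ a =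
      Ideal.Quotient.mk _ ((𝒯.str.app (op U)).hom r) ^ N * Ideal.Quotient.mk _ a'
    rw [← map_pow, ← map_mul, ← map_mul, Ideal.Quotient.eq, ← mul_sub]
    exact hN

/-- The grading on the quotient rings. -/
def quotAffDeg (U : S.AffineZariskiSite) : ℕ → AddSubgroup ((quotAff hP i hgen hft).obj (op U)) :=
  quotDeg (idl (chart := chart) i U.1 U.2)

instance (U : S.AffineZariskiSite) : GradedRing (quotAffDeg hP i hgen hft U) :=
  quotGradedRing _

theorem quotAffDeg_map {U V : S.AffineZariskiSite} (f : V ⟶ U) (n : ℕ) (x : (quotAff hP i hgen hft).obj (op U))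
    (hx : x ∈ quotAffDeg hP i hgen hft U n) :
    ((quotAff hP i hgen hft).map f.op).hom x ∈ quotAffDeg hP i hgen hft V n := by
  obtain ⟨a, ha, rfl⟩ := hx
  exact ⟨𝒯.res U.2 V.2 (toOpens_mono f.le) a, (𝒯.res U.2 V.2 (toOpens_mono f.le)).map_mem ha, rfl⟩

theorem quotAffDeg_str (U : S.AffineZariskiSite) (r : Γ(S, U.1)) :
    ((quotStr hP i hgen hft).app (op U)).hom r ∈ quotAffDeg hP i hgen hft U 0 :=
  ⟨_, 𝒯.str_mem U.1 U.2 r, rfl⟩

/-- The quotient algebra. -/
def quotAlg : RelProj.QCGrAlg S :=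
  grAlg (coequifibered_quotStr hP i hgen hft) (quotAffDeg hP i hgen hft) (quotAffDeg_map hP i hgen hft)
    (quotAffDeg_str hP i hgen hft)

/-- The quotient map over an affine open. -/
def quotMap (U : S.Opens) (hU : IsAffineOpen U) : 𝒯.deg U hU →+*ᵍ (quotAlg hP i hgen hft).deg U hU :=
  (fromF (coequifibered_quotStr hP i hgen hft) (quotAffDeg hP i hgen hft) (quotAffDeg_map hP i hgen hft)
    (quotAffDeg_str hP i hgen hft) U hU).comp (quotHom (idl (chart := chart) i U hU))

theorem surjective_quotMap (U : S.Opens) (hU : IsAffineOpen U) : Function.Surjective (quotMap hP i hgen hft U hU) := by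
  intro y
  obtain ⟨a, ha⟩ := Ideal.Quotient.mk_surjective (affEquiv (coequifibered_quotStr hP i hgen hft) ⟨U, hU⟩ y)
  refine ⟨a, ?_⟩
  show (affEquiv (coequifibered_quotStr hP i hgen hft) ⟨U, hU⟩).symm (Ideal.Quotient.mk _ a) = y
  rw [ha]
  exact RingEquiv.symm_apply_apply _ _

theorem quotMap_str (U : S.Opens) (hU : IsAffineOpen U) (r : Γ(S, U)) :
    quotMap hP i hgen hft U hU ((𝒯.str.app (op U)).hom r) = ((quotAlg hP i hgen hft).str.app (op U)).hom r := by
  apply (affEquiv (coequifibered_quotStr hP i hgen hft) ⟨U, hU⟩).injective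
  exact (RingEquiv.apply_symm_apply _ _).trans (affEquiv_str (coequifibered_quotStr hP i hgen hft) ⟨U, hU⟩ r).symm

theorem quotMap_res {U : S.Opens} (hU : IsAffineOpen U) (r : Γ(S, U)) (a : 𝒯.presheaf.obj (op U)) :
    (quotAlg hP i hgen hft).res hU (hU.basicOpen r) (S.basicOpen_le r) (quotMap hP i hgen hft U hU a) =
      quotMap hP i hgen hft (S.basicOpen r) (hU.basicOpen r) (𝒯.res hU (hU.basicOpen r) (S.basicOpen_le r) a) := by
  refine (res_fromF (coequifibered_quotStr hP i hgen hft) (quotAffDeg hP i hgen hft) (quotAffDeg_map hP i hgen hft)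
    (quotAffDeg_str hP i hgen hft) hU r _).trans ?_
  rfl

theorem irrelevant_quotMap (U : S.Opens) (hU : IsAffineOpen U) :
    ((quotAlg hP i hgen hft).deg U hU)₊ ≤ ((𝒯.deg U hU)₊).map (quotMap hP i hgen hft U hU) :=
  HomogeneousIdeal.irrelevant_le_map_comp (irrelevant_le_quotHom _) (irrelevant_fromF _ _ _ _ U hU)

theorem exists_chart (U : S.Opens) (hU : IsAffineOpen U) :
    ∃ e : ((i ⁻¹ᵁ (p ⁻¹ᵁ U) : X.Opens) : Scheme.{u}) ≅ Proj ((quotAlg hP i hgen hft).deg U hU),
      e.hom ≫ Proj.map (quotMap hP i hgen hft U hU) (irrelevant_quotMap hP i hgen hft U hU) = cU chart i U hU := by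
  obtain ⟨ι, _, g, hg, hcov⟩ := exists_gens hgen hft U hU
  exact exists_iso_of_quot (cU chart i U hU) hg hcov
    (fromF (coequifibered_quotStr hP i hgen hft) (quotAffDeg hP i hgen hft) (quotAffDeg_map hP i hgen hft)
      (quotAffDeg_str hP i hgen hft) U hU) _
    (isIso_map_fromF (coequifibered_quotStr hP i hgen hft) (quotAffDeg hP i hgen hft)
      (quotAffDeg_map hP i hgen hft) (quotAffDeg_str hP i hgen hft) U hU)

set_option maxHeartbeats 1600000 in
include hP hgen hft in
theorem isProjective_comp : RelProj.IsProjective (i ≫ p) := by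
  let Q := quotAlg hP i hgen hft
  choose e he using exists_chart hP i hgen hft
  let π : ∀ (U : S.Opens) (hU : IsAffineOpen U), Proj (Q.deg U hU) ⟶ Proj (𝒯.deg U hU) := fun U hU =>
    Proj.map (quotMap hP i hgen hft U hU) (irrelevant_quotMap hP i hgen hft U hU)
  haveI hmono : ∀ U hU, IsClosedImmersion (π U hU) := fun U hU =>
    RelProj11.isClosedImmersion_map _ _ fun n _ =>
      RelProj11.surjOn_of_surjective _ (surjective_quotMap hP i hgen hft U hU) n
  refine ⟨Q, X, i ≫ p, fun U hU => e U hU, Iso.refl X, ?_, ?_, ⟨fun U hU => ?_, fun U hU r => ?_⟩, Category.id_comp _⟩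
  · intro U hU
    refine top_le_iff.1 fun y _ => ?_
    obtain ⟨a, rfl⟩ := surjective_quotMap hP i hgen hft U hU y
    have ha : a ∈ Subring.closure ((𝒯.deg U hU 0 : Set _) ∪ (𝒯.deg U hU 1 : Set _)) := by rw [hgen U hU]; trivial
    refine (Subring.closure_le (t := (Subring.closure ((Q.deg U hU 0 : Set _) ∪ (Q.deg U hU 1 : Set _))).comap
      (quotMap hP i hgen hft U hU).toRingHom)).2 ?_ ha
    rintro z (hz | hz)
    · exact Subring.subset_closure (Or.inl ((quotMap hP i hgen hft U hU).map_mem hz))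
    · exact Subring.subset_closure (Or.inr ((quotMap hP i hgen hft U hU).map_mem hz))
  · intro U hU
    classical
    obtain ⟨T, hT1, hT2⟩ := hft U hU
    let q := quotMap hP i hgen hft U hU
    refine ⟨T.image q, fun y hy => ?_, fun y hy => ?_⟩
    · obtain ⟨t, ht, rfl⟩ := Finset.mem_image.1 hy
      exact q.map_mem (hT1 ht)
    · obtain ⟨a, ha, rfl⟩ := RelProj11.surjOn_of_surjective q (surjective_quotMap hP i hgen hft U hU) 1 hy
      obtain ⟨c, hc⟩ := hT2 a ha
      refine ⟨fun y => ∑ t ∈ T.filter (fun t => q t = y), c t, ?_⟩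
      rw [hc, map_sum]
      refine (Finset.sum_fiberwise_of_maps_to (g := fun t => q t) (fun t ht => Finset.mem_image_of_mem q ht) _).symm.trans
        (Finset.sum_congr rfl fun y _ => ?_)
      rw [map_sum, Finset.sum_mul]
      refine Finset.sum_congr rfl fun t ht => ?_
      rw [map_mul, (Finset.mem_filter.1 ht).2, quotMap_str hP i hgen hft U hU]
  · have h := congrArg (· ≫ Proj.toSpecZero (𝒯.deg U hU) ≫ Spec.map (𝒯.strZero U hU) ≫ hU.fromSpec) (he U hU)
    simp only [Category.assoc] at h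
    rw [reassoc_of% (RelProj11.map_toSpecZero (ψ := quotMap hP i hgen hft U hU) (irrelevant_quotMap hP i hgen hft U hU))] at h
    rw [← Spec.map_comp_assoc] at h
    rw [show (𝒯.strZero U hU) ≫ CommRingCat.ofHom (RelProj11.zeroHom (quotMap hP i hgen hft U hU)) = Q.strZero U hU from
      CommRingCat.hom_ext (RingHom.ext fun r => Subtype.ext (quotMap_str hP i hgen hft U hU r))] at h
    refine h.trans ?_
    rw [cU, Category.assoc, hP.chart_over U hU, morphismRestrict_ι_assoc]
    rfl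
  · rw [← cancel_mono (π U hU), Category.assoc, he U hU, Category.assoc, ← Proj.map_comp]
    refine (cU_res hP i hU (hU.basicOpen r) (S.basicOpen_le r) r rfl).symm.trans ?_
    rw [← he (S.basicOpen r) (hU.basicOpen r), Category.assoc, ← Proj.map_comp]
    congr 1
    exact RelProj11.map_congr _ (GradedRingHom.ext fun a => (quotMap_res hP i hgen hft hU r a).symm) _

end Groth.Agent.QuotProj11

namespace Groth.Agent.QuotProj11

/-- A closed subscheme of a projective scheme is projective. -/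
theorem isProjective_comp_of_isClosedImmersion {X Y S : Scheme.{u}} (i : X ⟶ Y) [IsClosedImmersion i]
    {f : Y ⟶ S} (hf : RelProj.IsProjective f) : RelProj.IsProjective (i ≫ f) := by
  obtain ⟨𝒮, P, p, chart, e, hgen, hft, hP, rfl⟩ := hf
  rw [← Category.assoc]
  exact isProjective_comp hP (i ≫ e.hom) hgen hft

end Groth.Agent.QuotProj11
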