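import Groth.Agent.Lib.QuotProj11.Grading
import Groth.Agent.Lib.PullBC11.Tilde
import Groth.Agent.Lib.GrMod11.GammaIso
import Groth.Agent.Lib.RelProj11.Map

/-!
The homogeneous ideal of a closed subscheme of `Proj` of a graded ring generated in degree one.
-/

set_option autoImplicit false

universe u

open CategoryTheory CategoryTheory.Limits AlgebraicGeometry TopologicalSpace Opposite
open scoped HomogeneousIdeal

noncomputable section

namespace Groth.Agent.QuotProj11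

open Groth.Agent.PullBC11 Groth.Agent.GrMod11

variable {A σ : Type u} [CommRing A] [SetLike σ A] [AddSubgroupClass σ A] {𝒜 : ℕ → σ} [GradedRing 𝒜]
  {Z : Scheme.{u}} (c : Z ⟶ Proj 𝒜)

/-- Restriction of functions. -/
abbrev rs {X : Scheme.{u}} {U V : X.Opens} (h : V ≤ U) : Γ(X, U) →+* Γ(X, V) :=
  (X.presheaf.map (homOfLE h).op).hom

theorem rs_rs {X : Scheme.{u}} {U V W : X.Opens} (h : V ≤ U) (h' : W ≤ V) (s : Γ(X, U)) :
    rs h' (rs h s) = rs (h'.trans h) s := by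
  rw [← ConcreteCategory.comp_apply, ← Functor.map_comp]
  rfl

/-- The dehomogenized restriction to the subscheme. -/
def phi {f : A} (hf : f ∈ 𝒜 1) : A →+* Γ(Z, c ⁻¹ᵁ Proj.basicOpen 𝒜 f) :=
  (c.app (Proj.basicOpen 𝒜 f)).hom.comp (chi 𝒜 hf)

theorem phi_self {f : A} (hf : f ∈ 𝒜 1) : phi c hf f = 1 := by
  rw [phi, RingHom.comp_apply, chi_self, map_one]

theorem chi_change {f g : A} (hf : f ∈ 𝒜 1) (hg : g ∈ 𝒜 1) {e : ℕ} {a : A} (ha : a ∈ 𝒜 e) :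
    rs (inf_le_left : Proj.basicOpen 𝒜 f ⊓ Proj.basicOpen 𝒜 g ≤ _) (chi 𝒜 hf a) =
      rs (inf_le_left : Proj.basicOpen 𝒜 f ⊓ Proj.basicOpen 𝒜 g ≤ _) (chi 𝒜 hf (g ^ e)) *
        rs (inf_le_right : Proj.basicOpen 𝒜 f ⊓ Proj.basicOpen 𝒜 g ≤ _) (chi 𝒜 hg a) := by
  refine GrTw11.sectionO_ext fun x hx => ?_
  rw [GrTw11.valO_mul]
  show GrTw11.valO (chi 𝒜 hf a) x hx.1 = GrTw11.valO (chi 𝒜 hf (g ^ e)) x hx.1 * GrTw11.valO (chi 𝒜 hg a) x hx.2
  rw [chi_of_mem 𝒜 hf ha, chi_of_mem 𝒜 hg ha, chi_of_mem 𝒜 hf (pow_mem_one 𝒜 hg e), valO_fr, valO_fr, valO_fr,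
    Localization.mk_mul, Localization.mk_eq_mk_iff, Localization.r_iff_exists]
  exact ⟨1, by simp only [OneMemClass.coe_one, one_mul, Submonoid.coe_mul]; ring⟩

theorem phi_change {f g : A} (hf : f ∈ 𝒜 1) (hg : g ∈ 𝒜 1) {e : ℕ} {a : A} (ha : a ∈ 𝒜 e) :
    rs (c.preimage_mono inf_le_left : c ⁻¹ᵁ (Proj.basicOpen 𝒜 f ⊓ Proj.basicOpen 𝒜 g) ≤ _) (phi c hf a) =
      rs (c.preimage_mono inf_le_left : c ⁻¹ᵁ (Proj.basicOpen 𝒜 f ⊓ Proj.basicOpen 𝒜 g) ≤ _) (phi c hf g) ^ e *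
        rs (c.preimage_mono inf_le_right : c ⁻¹ᵁ (Proj.basicOpen 𝒜 f ⊓ Proj.basicOpen 𝒜 g) ≤ _) (phi c hg a) := by
  have h := congrArg (c.app _) (chi_change hf hg ha)
  rw [map_mul] at h
  have n : ∀ {U V : (Proj 𝒜).Opens} (hle : V ≤ U) (s : Γ(Proj 𝒜, U)),
      c.app V (rs hle s) = rs (c.preimage_mono hle) (c.app U s) := fun hle s =>
    ConcreteCategory.congr_hom (c.naturality (homOfLE hle).op) s
  rw [n, n, n] at h
  refine h.trans ?_
  rw [map_pow, map_pow, map_pow]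
  rfl

/-- The homogeneous ideal of the subscheme. -/
def vanIdeal : HomogeneousIdeal 𝒜 :=
  (⨅ f : {f : A // f ∈ 𝒜 1}, RingHom.ker (phi c f.2)).homogeneousCore 𝒜

theorem phi_eq_zero_of_mem {a : A} (ha : a ∈ (vanIdeal c).toIdeal) {f : A} (hf : f ∈ 𝒜 1) : phi c hf a = 0 :=
  (Submodule.mem_iInf _).1 (Ideal.toIdeal_homogeneousCore_le 𝒜 _ ha) ⟨f, hf⟩

theorem mem_vanIdeal {e : ℕ} {a : A} (ha : a ∈ 𝒜 e) (h : ∀ (f : A) (hf : f ∈ 𝒜 1), phi c hf a = 0) :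
    a ∈ (vanIdeal c).toIdeal :=
  Ideal.mem_homogeneousCore_of_homogeneous_of_mem ⟨e, ha⟩ ((Submodule.mem_iInf _).2 fun f => h f.1 f.2)

variable {ι : Type u} {g : ι → A} (hg : ∀ i, g i ∈ 𝒜 1) (hcov : ⨆ i, Proj.basicOpen 𝒜 (g i) = ⊤)

include hg hcov in
theorem mem_vanIdeal_of_cover {e : ℕ} {a : A} (ha : a ∈ 𝒜 e) (h : ∀ i, phi c (hg i) a = 0) :
    a ∈ (vanIdeal c).toIdeal := by
  refine mem_vanIdeal c ha fun f hf => ?_
  refine Z.sheaf.eq_of_locally_eq' (fun i => c ⁻¹ᵁ (Proj.basicOpen 𝒜 f ⊓ Proj.basicOpen 𝒜 (g i))) _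
    (fun i => homOfLE (c.preimage_mono inf_le_left)) (fun z hz => ?_) _ _ fun i => ?_
  · obtain ⟨i, hi⟩ := Opens.mem_iSup.1 (show c z ∈ ⨆ i, Proj.basicOpen 𝒜 (g i) by rw [hcov]; trivial)
    exact Opens.mem_iSup.2 ⟨i, hz, hi⟩
  · show rs _ (phi c hf a) = rs _ 0
    rw [map_zero, phi_change c hf (hg i) ha, h i, map_zero, mul_zero]

theorem basicOpen_phi {f : A} (hf : f ∈ 𝒜 1) {b : A} (hb : b ∈ 𝒜 1) :
    Z.basicOpen (phi c hf b) = c ⁻¹ᵁ (Proj.basicOpen 𝒜 f ⊓ Proj.basicOpen 𝒜 b) := by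
  rw [phi, RingHom.comp_apply, ← Scheme.preimage_basicOpen, chi_of_mem 𝒜 hf hb, basicOpen_fr hf ⟨b, hb⟩]

theorem exists_pow_eq_zero [IsAffineHom c] {f : A} (hf : f ∈ 𝒜 1) {b : A} (hb : b ∈ 𝒜 1)
    (s : Γ(Z, c ⁻¹ᵁ Proj.basicOpen 𝒜 f))
    (h : rs (c.preimage_mono inf_le_left : c ⁻¹ᵁ (Proj.basicOpen 𝒜 f ⊓ Proj.basicOpen 𝒜 b) ≤ _) s = 0) :
    ∃ N : ℕ, phi c hf b ^ N * s = 0 := by
  refine exists_pow_mul_eq_zero_of_res_basicOpen_eq_zero_of_isAffineOpen Z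
    ((Proj.isAffineOpen_basicOpen 𝒜 f hf Nat.one_pos).preimage c) s _ ?_
  show rs _ s = 0
  have h' := congrArg (rs (basicOpen_phi c hf hb).le) h
  rwa [map_zero, rs_rs] at h'

include hg hcov in
/-- If the dehomogenization of `a` at `f` vanishes, some `f ^ N * a` lies in the ideal. -/
theorem exists_pow_mul_mem [Finite ι] [IsAffineHom c] {f : A} (hf : f ∈ 𝒜 1) {e : ℕ} {a : A} (ha : a ∈ 𝒜 e)
    (h : phi c hf a = 0) : ∃ N : ℕ, f ^ N * a ∈ (vanIdeal c).toIdeal := by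
  have key : ∀ i, ∃ N, phi c (hg i) f ^ N * phi c (hg i) a = 0 := fun i =>
    exists_pow_eq_zero c (hg i) hf _ (by rw [phi_change c (hg i) hf ha, h, map_zero, mul_zero])
  choose N hN using key
  haveI := Fintype.ofFinite ι
  refine ⟨Finset.univ.sup N, mem_vanIdeal_of_cover c hg hcov
    (SetLike.mul_mem_graded (pow_mem_one 𝒜 hf _) ha) fun i => ?_⟩
  rw [map_mul, map_pow, ← Nat.sub_add_cancel (Finset.le_sup (f := N) (Finset.mem_univ i)), pow_add, mul_assoc,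
    hN i, mul_zero]

section compare

variable [IsClosedImmersion c] [Finite ι]

include hg hcov in
theorem ker_eq_ker_map :
    c.ker = (Proj.map (quotHom (vanIdeal c)) (irrelevant_le_quotHom _)).ker := by
  set q := quotHom (vanIdeal c)
  haveI : IsClosedImmersion (Proj.map q (irrelevant_le_quotHom _)) :=
    RelProj11.isClosedImmersion_map q _ fun n _ => surjOn_quotHom _ n
  refine Scheme.IdealSheafData.ext_of_iSup_eq_top
    (fun i => ⟨Proj.basicOpen 𝒜 (g i), Proj.isAffineOpen_basicOpen 𝒜 (g i) (hg i) Nat.one_pos⟩) hcov fun i => ?_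
  rw [Scheme.Hom.ker_apply, Scheme.Hom.ker_apply]
  ext r
  rw [RingHom.mem_ker, RingHom.mem_ker]
  obtain ⟨z, rfl⟩ := ((ConcreteCategory.isIso_iff_bijective (Proj.basicOpenIsoAway 𝒜 (g i) (hg i) one_pos).hom).1
    inferInstance).2 r
  obtain ⟨e, b, hb', rfl⟩ := HomogeneousLocalization.Away.mk_surjective 𝒜 (hg i) z
  have hb : b ∈ 𝒜 e := by simpa using hb'
  rw [show (Proj.basicOpenIsoAway 𝒜 (g i) (hg i) one_pos).hom
      (HomogeneousLocalization.Away.mk 𝒜 (hg i) e b hb') = chi 𝒜 (hg i) b from by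
    rw [Proj.basicOpenIsoAway_hom, chi_of_mem 𝒜 (hg i) hb]; rfl]
  have hmap : (Proj.map q (irrelevant_le_quotHom _)).app (Proj.basicOpen 𝒜 (g i)) (chi 𝒜 (hg i) b) =
      chi (quotDeg (vanIdeal c)) (q.map_mem (hg i)) (q b) := by
    rw [Scheme.Hom.app_eq_appLE]
    exact chi_comp q (irrelevant_le_quotHom _) (hg i) b
  constructor
  · intro h0
    obtain ⟨N, hN⟩ := exists_pow_mul_mem c hg hcov (hg i) hb h0
    refine hmap.trans ?_
    have h1 := congrArg (chi (quotDeg (vanIdeal c)) (q.map_mem (hg i))) ((quotHom_eq_zero _).2 hN)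
    rw [map_mul, map_mul, map_pow, map_pow, map_zero] at h1
    erw [chi_self (quotDeg (vanIdeal c)) (q.map_mem (hg i)), one_pow, one_mul] at h1
    exact h1
  · intro h0
    have h1 := hmap.symm.trans h0
    erw [chi_of_mem _ _ (q.map_mem hb)] at h1
    have h2 : HomogeneousLocalization.Away.mk (quotDeg (vanIdeal c)) (q.map_mem (hg i)) e (q b)
        (by simpa using q.map_mem hb) = 0 :=
      ((ConcreteCategory.isIso_iff_bijective
        (Proj.basicOpenIsoAway (quotDeg (vanIdeal c)) (q (g i)) (q.map_mem (hg i)) one_pos).hom).1 inferInstance).1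
        (by rw [map_zero, Proj.basicOpenIsoAway_hom]; exact h1)
    rw [RelProj11.away_mk_eq_zero_iff] at h2
    obtain ⟨N, hN⟩ := h2
    have hN' : q (g i ^ N * b) = 0 := by rw [map_mul, map_pow]; exact hN
    have h3 := phi_eq_zero_of_mem c ((quotHom_eq_zero _).1 hN') (hg i)
    rwa [map_mul, map_pow, phi_self, one_pow, one_mul] at h3

include hg hcov in
theorem exists_iso_quotient :
    ∃ e : Z ≅ Proj (quotDeg (vanIdeal c)),
      e.hom ≫ Proj.map (quotHom (vanIdeal c)) (irrelevant_le_quotHom _) = c := by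
  haveI : IsClosedImmersion (Proj.map (quotHom (vanIdeal c)) (irrelevant_le_quotHom _)) :=
    RelProj11.isClosedImmersion_map (quotHom (vanIdeal c)) _ fun n _ => surjOn_quotHom _ n
  haveI := IsClosedImmersion.isIso_lift (Proj.map (quotHom (vanIdeal c)) (irrelevant_le_quotHom _)) c
    (ker_eq_ker_map c hg hcov).symm
  exact ⟨asIso (IsClosedImmersion.lift (Proj.map (quotHom (vanIdeal c)) (irrelevant_le_quotHom _)) c
    (ker_eq_ker_map c hg hcov).ge), IsClosedImmersion.lift_fac _ _ _⟩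

include hg hcov in
theorem exists_iso_of_quot {B τ : Type u} [CommRing B] [SetLike τ B] [AddSubgroupClass τ B] {ℬ : ℕ → τ}
    [GradedRing ℬ] (θ : quotDeg (vanIdeal c) →+*ᵍ ℬ) (hθ : ℬ₊ ≤ ((quotDeg (vanIdeal c))₊).map θ)
    (hiso : IsIso (Proj.map θ hθ)) :
    ∃ e : Z ≅ Proj ℬ, e.hom ≫ Proj.map (θ.comp (quotHom (vanIdeal c)))
      (HomogeneousIdeal.irrelevant_le_map_comp (irrelevant_le_quotHom _) hθ) = c := by
  obtain ⟨e, he⟩ := exists_iso_quotient c hg hcov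
  refine ⟨e ≪≫ (asIso (Proj.map θ hθ)).symm, ?_⟩
  rw [Iso.trans_hom, Iso.symm_hom, asIso_inv, Category.assoc,
    Proj.map_comp _ _ (irrelevant_le_quotHom _) hθ, IsIso.inv_hom_id_assoc]
  exact he

end compare

section functoriality

variable {B τ : Type u} [CommRing B] [SetLike τ B] [AddSubgroupClass τ B] {ℬ : ℕ → τ} [GradedRing ℬ]
  (ψ : 𝒜 →+*ᵍ ℬ) (hψ : ℬ₊ ≤ (𝒜₊).map ψ) {Z' : Scheme.{u}} (c' : Z' ⟶ Proj ℬ) (j : Z' ⟶ Z)
  (hj : c' ≫ Proj.map ψ hψ = j ≫ c)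

include hj in
theorem preimage_chart (f : A) :
    c' ⁻¹ᵁ Proj.basicOpen ℬ (ψ f) = j ⁻¹ᵁ (c ⁻¹ᵁ Proj.basicOpen 𝒜 f) := by
  rw [← Proj.map_preimage_basicOpen ψ hψ, ← Scheme.Hom.comp_preimage, hj]
  rfl

include hj in
theorem phi_map {f : A} (hf : f ∈ 𝒜 1) (a : A) :
    phi c' (ψ.map_mem hf) (ψ a) =
      j.appLE (c ⁻¹ᵁ Proj.basicOpen 𝒜 f) _ (preimage_chart c ψ hψ c' j hj f).le (phi c hf a) := by
  rw [phi, RingHom.comp_apply, ← chi_comp ψ hψ hf a, phi, RingHom.comp_apply, Scheme.Hom.app_eq_appLE,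
    Scheme.Hom.app_eq_appLE, ← ConcreteCategory.comp_apply, ← ConcreteCategory.comp_apply,
    Scheme.Hom.appLE_comp_appLE]
  erw [Scheme.Hom.appLE_comp_appLE]
  have heq : ∀ {g₁ g₂ : Z' ⟶ Proj 𝒜} (_ : g₁ = g₂) {U : (Proj 𝒜).Opens} {W : Z'.Opens}
      (e₁ : W ≤ g₁ ⁻¹ᵁ U) (e₂ : W ≤ g₂ ⁻¹ᵁ U), g₁.appLE U W e₁ = g₂.appLE U W e₂ := by
    rintro _ _ rfl _ _ _ _; rfl
  congr 2
  exact heq hj _ _

include hψ hcov in
theorem iSup_map : ⨆ i, Proj.basicOpen ℬ (ψ (g i)) = ⊤ := by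
  refine top_le_iff.1 fun y _ => ?_
  obtain ⟨i, hi⟩ := Opens.mem_iSup.1 (show Proj.map ψ hψ y ∈ ⨆ i, Proj.basicOpen 𝒜 (g i) by rw [hcov]; trivial)
  exact Opens.mem_iSup.2 ⟨i, by rw [← Proj.map_preimage_basicOpen ψ hψ]; exact hi⟩

include hj hg hcov in
theorem map_mem_vanIdeal {a : A} (ha : a ∈ (vanIdeal c).toIdeal) : ψ a ∈ (vanIdeal c').toIdeal := by
  classical
  rw [← DirectSum.sum_support_decompose 𝒜 a, map_sum]
  refine Submodule.sum_mem _ fun n _ => ?_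
  refine mem_vanIdeal_of_cover c' (g := fun i => ψ (g i)) (fun i => ψ.map_mem (hg i)) (iSup_map hcov ψ hψ)
    (ψ.map_mem (SetLike.coe_mem _)) fun i => ?_
  rw [phi_map c ψ hψ c' j hj (hg i), phi_eq_zero_of_mem c ((vanIdeal c).isHomogeneous n ha) (hg i), map_zero]

include hj hg hcov in
theorem exists_pow_mul_mem_of_map [IsAffineHom c] [Finite ι] [IsOpenImmersion j] {r : A} (hr : r ∈ 𝒜 0)
    (hjr : j.opensRange = c ⁻¹ᵁ Proj.basicOpen 𝒜 r) {e : ℕ} {a : A} (ha : a ∈ 𝒜 e)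
    (h : ψ a ∈ (vanIdeal c').toIdeal) : ∃ N : ℕ, r ^ N * a ∈ (vanIdeal c).toIdeal := by
  have hrg : ∀ i, r * g i ∈ 𝒜 1 := fun i => by simpa using SetLike.mul_mem_graded hr (hg i)
  have key : ∀ i, ∃ N, phi c (hg i) r ^ N * phi c (hg i) a = 0 := by
    intro i
    have h0 : j.appLE (c ⁻¹ᵁ Proj.basicOpen 𝒜 (g i)) _ (preimage_chart c ψ hψ c' j hj (g i)).le (phi c (hg i) a) = 0 := by
      rw [← phi_map c ψ hψ c' j hj (hg i)]
      exact phi_eq_zero_of_mem c' h (ψ.map_mem (hg i))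
    have hW : c ⁻¹ᵁ (Proj.basicOpen 𝒜 (g i) ⊓ Proj.basicOpen 𝒜 (r * g i)) =
        j ''ᵁ (c' ⁻¹ᵁ Proj.basicOpen ℬ (ψ (g i))) := by
      rw [preimage_chart c ψ hψ c' j hj, Scheme.Hom.image_preimage_eq_opensRange_inf, hjr,
        Proj.basicOpen_mul, ← Scheme.Hom.preimage_inf]
      congr 1
      rw [inf_left_comm, inf_idem]
    have h2 : ∀ {W : Z.Opens} (_ : W = j ''ᵁ (c' ⁻¹ᵁ Proj.basicOpen ℬ (ψ (g i))))
        (hle : W ≤ c ⁻¹ᵁ Proj.basicOpen 𝒜 (g i)), rs hle (phi c (hg i) a) = 0 := by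
      rintro _ rfl hle
      apply ((ConcreteCategory.isIso_iff_bijective (j.appIso _).hom).1 inferInstance).1
      rw [map_zero, ← h0, Scheme.Hom.appIso_hom', ← ConcreteCategory.comp_apply, Scheme.Hom.map_appLE]
    obtain ⟨N, hN⟩ := exists_pow_eq_zero c (hg i) (hrg i) (phi c (hg i) a) (h2 hW _)
    rw [map_mul, phi_self, mul_one] at hN
    exact ⟨N, hN⟩
  choose N hN using key
  haveI := Fintype.ofFinite ι
  refine ⟨Finset.univ.sup N, mem_vanIdeal_of_cover c hg hcov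
    (SetLike.mul_mem_graded (SetLike.pow_mem_graded _ hr) ha) fun i => ?_⟩
  rw [map_mul, map_pow, ← Nat.sub_add_cancel (Finset.le_sup (f := N) (Finset.mem_univ i)), pow_add, mul_assoc,
    hN i, mul_zero]

end functoriality

end Groth.Agent.QuotProj11

namespace Groth.Agent.QuotProj11

open AlgebraicGeometry HomogeneousLocalization in
/-- The locus where a degree zero element is invertible. -/
theorem toSpecZero_preimage_basicOpen {A σ : Type u} [CommRing A] [SetLike σ A] [AddSubgroupClass σ A]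
    {𝒜 : ℕ → σ} [GradedRing 𝒜] (r : 𝒜 0) :
    Proj.toSpecZero 𝒜 ⁻¹ᵁ PrimeSpectrum.basicOpen r = Proj.basicOpen 𝒜 (r : A) := by
  ext x
  obtain ⟨i, w, rfl⟩ : ∃ (i : (Proj.affineOpenCover 𝒜).I₀) (w : Spec (CommRingCat.of (Away 𝒜 (i.2 : A)))),
      Proj.awayι 𝒜 (i.2 : A) i.2.2 i.1.2 w = x := ⟨_, (Proj.affineOpenCover 𝒜).openCover.covers x⟩
  obtain ⟨⟨d, hd⟩, f, hf⟩ := i
  change _ ↔ Proj.awayι 𝒜 f hf hd w ∈ Proj.basicOpen 𝒜 (r : A)
  have hfx : Proj.awayι 𝒜 f hf hd w ∈ Proj.basicOpen 𝒜 f := by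
    rw [← Proj.opensRange_awayι 𝒜 f hf hd]
    exact ⟨w, rfl⟩
  have h1 : Proj.awayι 𝒜 f hf hd w ∈ Proj.basicOpen 𝒜 (r : A) ↔
      Proj.awayι 𝒜 f hf hd w ∈ Proj.basicOpen 𝒜 ((r : A) * f) := by
    rw [Proj.basicOpen_mul]
    exact ⟨fun h => ⟨h, hfx⟩, fun h => h.1⟩
  have hrf : (r : A) * f ∈ 𝒜 d := by simpa using SetLike.mul_mem_graded r.2 hf
  rw [h1]
  change _ ↔ w ∈ Proj.awayι 𝒜 f hf hd ⁻¹ᵁ Proj.basicOpen 𝒜 ((r : A) * f)
  rw [Proj.awayι_preimage_basicOpen 𝒜 hf hd hrf hd]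
  have he : Away.isLocalizationElem hf hrf = fromZeroRingHom 𝒜 (Submonoid.powers f) r ^ d := by
    apply HomogeneousLocalization.val_injective
    rw [RelProj11.val_fromZero_pow, Away.val_mk, Localization.mk_eq_mk_iff, Localization.r_iff_exists]
    exact ⟨1, by simp [mul_pow, mul_comm]⟩
  rw [he, PrimeSpectrum.basicOpen_pow _ _ hd]
  change (Proj.awayι 𝒜 f hf hd ≫ Proj.toSpecZero 𝒜) w ∈ PrimeSpectrum.basicOpen r ↔ _
  rw [Proj.awayι_toSpecZero]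
  exact Iff.rfl

end Groth.Agent.QuotProj11
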